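import Groth.Agent.CalgA.DimFormula2
import Groth.Agent.LoccohA.CutoffLoc

/-!
# The altitude formula under a catenarity hypothesis on subalgebras of `S[T]`
-/

set_option autoImplicit false
set_option linter.style.haveILetI false
set_option linter.unusedSectionVars false

universe u v

namespace K109.Altitude

open Ideal Groth.Agent.Ega4B.CatHeight Groth.Agent.CalgA

/-- The dimension formula (in terms of natural numbers) from an additivity of heights in a
polynomial ring (proof adapted from `Groth.Agent.CalgA.DimFormula2.exists_dimension_formula`). -/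
theorem exists_dimension_formula {R : Type u} {S : Type v} [CommRing R] [IsDomain R]
    [IsNoetherianRing R] [CommRing S] [IsDomain S] [Algebra R S] [FaithfulSMul R S]
    {n : ℕ} (f : MvPolynomial (Fin n) R →ₐ[R] S) (hf : Function.Surjective f)
    (p : Ideal R) [hp : p.IsPrime] (q : Ideal S) [hq : q.IsPrime]
    [q.LiesOver p]
    (heq : (RingHom.ker f).height + q.height = (q.comap f).height) :
    ∃ hq hp t t' : ℕ, q.height = hq ∧ p.height = hp ∧ Algebra.trdeg R S = t ∧
      Algebra.trdeg (R ⧸ p) (S ⧸ q) = t' ∧ hq + t' = hp + t := by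
  have hft : Algebra.FiniteType R S := Algebra.FiniteType.of_surjective f hf
  have hinjS : Function.Injective (algebraMap R S) := FaithfulSMul.algebraMap_injective R S
  let A := MvPolynomial (Fin n) R
  let P : Ideal A := RingHom.ker f
  have hP : P.IsPrime := RingHom.ker_isPrime f
  let Q : Ideal A := q.comap f
  have hQ : Q.IsPrime := Ideal.IsPrime.comap f
  -- heights of `P`
  have hPcomap : P.comap (algebraMap R A) = ⊥ := by
    rw [eq_bot_iff]
    intro a ha
    have h1 : f (algebraMap R A a) = 0 := ha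
    rw [AlgHom.commutes] at h1
    exact (map_eq_zero_iff _ hinjS).1 h1
  obtain ⟨hPn, t, e1, e2, e3⟩ := DimFormula.exists_height_add_trdeg P hPcomap
  have htS : Algebra.trdeg R S = t := by
    have e := (Ideal.quotientKerAlgEquivOfSurjective hf).lift_trdeg_eq
    rw [show Algebra.trdeg R (A ⧸ P) = t from e2] at e
    apply Cardinal.lift_injective.{u, v}
    rw [← e]
    simp
  have hn : (n : Cardinal.{u}) = ((hPn + t : ℕ) : Cardinal.{u}) := by
    rw [← e3, MvPolynomial.trdeg_of_isDomain]
    simp
  have hn' : n = hPn + t := by exact_mod_cast hn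
  -- the fibre
  let B := MvPolynomial (Fin n) (R ⧸ p)
  let h : B →ₐ[R ⧸ p] S ⧸ q := MvPolynomial.aeval (fun i => Ideal.Quotient.mk q (f (MvPolynomial.X i)))
  let g : A →+* B := MvPolynomial.map (Ideal.Quotient.mk p)
  have hg : Function.Surjective g := MvPolynomial.map_surjective _ Ideal.Quotient.mk_surjective
  have hcomp : (h : B →+* S ⧸ q).comp g = (Ideal.Quotient.mk q).comp (f : A →+* S) := by
    refine MvPolynomial.ringHom_ext (fun r => ?_) (fun i => ?_)
    · have e : (f : A →+* S) (MvPolynomial.C r) = algebraMap R S r := f.commutes r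
      have e0 : g (MvPolynomial.C r) = MvPolynomial.C (Ideal.Quotient.mk p r) :=
        MvPolynomial.map_C _ _
      have e' : (h : B →+* S ⧸ q) (MvPolynomial.C (Ideal.Quotient.mk p r)) =
        algebraMap (R ⧸ p) (S ⧸ q) (Ideal.Quotient.mk p r) := h.commutes _
      have e1' : algebraMap (R ⧸ p) (S ⧸ q) (Ideal.Quotient.mk p r) =
        Ideal.Quotient.mk q (algebraMap R S r) := Ideal.Quotient.algebraMap_mk_of_liesOver _ _ _
      exact ((congrArg (h : B →+* S ⧸ q) e0).trans (e'.trans e1')).trans
        (congrArg (Ideal.Quotient.mk q) e.symm)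
    · have e0 : g (MvPolynomial.X i) = MvPolynomial.X i := MvPolynomial.map_X _ _
      have e1' : (h : B →+* S ⧸ q) (MvPolynomial.X i) =
        Ideal.Quotient.mk q (f (MvPolynomial.X i)) := MvPolynomial.aeval_X _ _
      exact (congrArg (h : B →+* S ⧸ q) e0).trans e1'
  have hh : Function.Surjective h := by
    intro y
    obtain ⟨s, rfl⟩ := Ideal.Quotient.mk_surjective y
    obtain ⟨a, rfl⟩ := hf s
    exact ⟨g a, congrArg (fun φ => φ a) hcomp⟩
  let Q' : Ideal B := RingHom.ker h
  have hQ' : Q'.IsPrime := RingHom.ker_isPrime h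
  have hQ'Q : Q'.comap g = Q := by
    ext a
    have e : h (g a) = Ideal.Quotient.mk q (f a) := congrArg (fun φ => φ a) hcomp
    change h (g a) = 0 ↔ f a ∈ q
    rw [e, Ideal.Quotient.eq_zero_iff_mem]
  have hQ'comap : Q'.comap (algebraMap (R ⧸ p) B) = ⊥ := by
    rw [eq_bot_iff]
    intro a ha
    have h1 : h (algebraMap (R ⧸ p) B a) = 0 := ha
    rw [AlgHom.commutes] at h1
    exact (map_eq_zero_iff _ (FaithfulSMul.algebraMap_injective (R ⧸ p) (S ⧸ q))).1 h1
  obtain ⟨hQ'n, t', e4, e5, e6⟩ := DimFormula.exists_height_add_trdeg Q' hQ'comap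
  have htS' : Algebra.trdeg (R ⧸ p) (S ⧸ q) = t' := by
    have e := AlgEquiv.lift_trdeg_eq (R := R ⧸ p) (A := B ⧸ Q') (A' := S ⧸ q)
      (Ideal.quotientKerAlgEquivOfSurjective hh)
    rw [show Algebra.trdeg (R ⧸ p) (B ⧸ Q') = t' from e5] at e
    apply Cardinal.lift_injective.{u, v}
    rw [← e]
    simp
  have hm : (n : Cardinal.{u}) = ((hQ'n + t' : ℕ) : Cardinal.{u}) := by
    rw [← e6, MvPolynomial.trdeg_of_isDomain]
    simp
  have hm' : n = hQ'n + t' := by exact_mod_cast hm
  -- flatness
  have hker : RingHom.ker g = p.map (algebraMap R A) := by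
    have := MvPolynomial.ker_map (σ := Fin n) (Ideal.Quotient.mk p)
    rw [Ideal.mk_ker] at this
    exact this
  have hpA : (p.map (algebraMap R A)).IsPrime := by
    rw [← hker]; exact RingHom.ker_isPrime g
  have hlies : Q.LiesOver p := by
    refine ⟨?_⟩
    have h1 : p = q.comap (algebraMap R S) := Ideal.LiesOver.over (P := q) (p := p)
    conv_lhs => rw [h1]
    change q.comap (algebraMap R S) = (q.comap f).comap (algebraMap R A)
    have h2 : algebraMap R S = (f : A →+* S).comp (algebraMap R A) := f.comp_algebraMap.symm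
    rw [h2]
    rfl
  have hle : p.map (algebraMap R A) ≤ Q := by
    rw [← hker, ← hQ'Q]
    exact Ideal.ker_le_comap g
  have key := Ideal.height_eq_height_add_of_liesOver_of_hasGoingDown p Q
  have e7 : (Q.map (Ideal.Quotient.mk (p.map (algebraMap R A)))).height = hQ'n := by
    rw [height_map_mk _ _ hle, ← e4,
      ← rlen_comap_eq_height hg ⟨p.map (algebraMap R A), hpA⟩ hker ⟨Q', hQ'⟩]
    congr 1
    ext1
    exact hQ'Q.symm
  rw [e7] at key
  have : IsNoetherianRing S := Algebra.FiniteType.isNoetherianRing R S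
  obtain ⟨hqn, hqn'⟩ := ENat.ne_top_iff_exists.1 (Ideal.height_ne_top_of_isPrime (I := q))
  obtain ⟨hpn, hpn'⟩ := ENat.ne_top_iff_exists.1 (Ideal.height_ne_top_of_isPrime (I := p))
  refine ⟨hqn, hpn, t, t', hqn'.symm, hpn'.symm, htS, htS', ?_⟩
  have heq' : P.height + q.height = Q.height := heq
  rw [key, e1, ← hqn', ← hpn'] at heq'
  have : hPn + hqn = hpn + hQ'n := by exact_mod_cast heq'
  omega


/-- Additivity of heights along a surjection from a Noetherian domain with a catenary localization. -/
theorem height_add_of_catenary {A B : Type*} [CommRing A] [IsDomain A] [IsNoetherianRing A]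
    [CommRing B] (f : A →+* B) (hf : Function.Surjective f) (hP : (RingHom.ker f).IsPrime)
    (q : Ideal B) [hq : q.IsPrime] (M : Ideal A) [M.IsPrime] (hM : q.comap f ≤ M)
    (hc : CAlg.IsCatenary (Localization.AtPrime M)) :
    (RingHom.ker f).height + q.height = (q.comap f).height := by
  have hQ : (q.comap f).IsPrime := Ideal.comap_isPrime _ _
  have hPQ : RingHom.ker f ≤ q.comap f := Ideal.ker_le_comap f
  have hr : ∀ P : PrimeSpectrum A, P.asIdeal ≤ M → ∃ P' : PrimeSpectrum (Localization.AtPrime M),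
      PrimeSpectrum.comap (algebraMap A (Localization.AtPrime M)) P' = P := by
    intro P hPM
    have h1 : P ∈ Set.range (CatOrder.comapLoc (S := Localization.AtPrime M) M.primeCompl) := by
      rw [CatOrder.range_comapLoc]
      change Disjoint ((M.primeCompl : Submonoid A) : Set A) (P.asIdeal : Set A)
      rw [Set.disjoint_left]
      intro x hx hx'
      exact hx (hPM hx')
    obtain ⟨P', hP'⟩ := h1
    exact ⟨P', hP'⟩
  obtain ⟨P₁, hP₁⟩ := hr ⟨RingHom.ker f, hP⟩ (hPQ.trans hM)
  obtain ⟨Q₁, hQ₁⟩ := hr ⟨q.comap f, hQ⟩ hM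
  obtain ⟨O₁, hO₁⟩ := hr ⟨⊥, Ideal.isPrime_bot⟩ bot_le
  have hN : IsNoetherianRing (Localization.AtPrime M) :=
    IsLocalization.isNoetherianRing M.primeCompl _ inferInstance
  have hle : ∀ {X Y : PrimeSpectrum (Localization.AtPrime M)},
      PrimeSpectrum.comap (algebraMap A (Localization.AtPrime M)) X ≤
      PrimeSpectrum.comap (algebraMap A (Localization.AtPrime M)) Y → X ≤ Y := by
    intro X Y h
    exact (CatOrder.comapLoc (S := Localization.AtPrime M) M.primeCompl).le_iff_le.mp h
  have h1 : O₁ ≤ P₁ := hle (by rw [hO₁, hP₁]; exact (bot_le : (⊥ : Ideal A) ≤ _))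
  have h2 : P₁ ≤ Q₁ := hle (by rw [hP₁, hQ₁]; exact hPQ)
  have h3 := isCatenary_iff.1 hc _ _ _ h1 h2
  have e1 := Groth.Agent.LoccohA.CutoffLoc.rlen_comap_localization M.primeCompl O₁ Q₁
  have e2 := Groth.Agent.LoccohA.CutoffLoc.rlen_comap_localization M.primeCompl O₁ P₁
  have e3 := Groth.Agent.LoccohA.CutoffLoc.rlen_comap_localization M.primeCompl P₁ Q₁
  rw [← e1, ← e2, ← e3] at h3
  change rlen (PrimeSpectrum.comap (algebraMap A (Localization.AtPrime M)) O₁)
    (PrimeSpectrum.comap (algebraMap A (Localization.AtPrime M)) Q₁) =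
    rlen (PrimeSpectrum.comap (algebraMap A (Localization.AtPrime M)) O₁)
    (PrimeSpectrum.comap (algebraMap A (Localization.AtPrime M)) P₁) +
    rlen (PrimeSpectrum.comap (algebraMap A (Localization.AtPrime M)) P₁)
    (PrimeSpectrum.comap (algebraMap A (Localization.AtPrime M)) Q₁) at h3
  rw [hO₁, hP₁, hQ₁, height_eq_rlen_bot ⟨q.comap f, hQ⟩, height_eq_rlen_bot ⟨RingHom.ker f, hP⟩] at h3
  have e4 : rlen (⟨RingHom.ker f, hP⟩ : PrimeSpectrum A) ⟨q.comap f, hQ⟩ = q.height :=
    rlen_comap_eq_height (f := f) hf ⟨RingHom.ker f, hP⟩ rfl ⟨q, hq⟩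
  rw [e4] at h3
  exact h3.symm

open IsLocalRing in
/-- one generator -/
theorem step {R B D : Type u} [CommRing R] [IsDomain R] [IsLocalRing R]
    [CommRing B] [IsDomain B] [IsNoetherianRing B] [CommRing D] [IsDomain D] [Algebra R B]
    [Algebra R D] [Algebra B D] [IsScalarTower R B D] [FaithfulSMul R B] [FaithfulSMul B D]
    (x : D) (hx : Algebra.adjoin B {x} = ⊤) (qB : Ideal B) [qB.IsPrime] (qD : Ideal D)
    [qD.IsPrime] [qD.LiesOver qB] [qB.LiesOver (maximalIdeal R)] [qD.LiesOver (maximalIdeal R)]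
    (hcat : ∀ (M : Ideal (MvPolynomial (Fin 1) B)) [M.IsMaximal], M.LiesOver (maximalIdeal R) →
      CAlg.IsCatenary (Localization.AtPrime M))
    (ih : (qB.height : Cardinal.{u}) + Algebra.trdeg (R ⧸ maximalIdeal R) (B ⧸ qB) =
      ((maximalIdeal R).height : Cardinal.{u}) + Algebra.trdeg R B) :
    (qD.height : Cardinal.{u}) + Algebra.trdeg (R ⧸ maximalIdeal R) (D ⧸ qD) =
      ((maximalIdeal R).height : Cardinal.{u}) + Algebra.trdeg R D := by
  let f : MvPolynomial (Fin 1) B →ₐ[B] D := MvPolynomial.aeval (fun _ => x)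
  have hf : Function.Surjective f := by
    rw [← AlgHom.range_eq_top, ← Algebra.adjoin_range_eq_range_aeval, Set.range_const, hx]
  have hker : (RingHom.ker f).IsPrime := RingHom.ker_isPrime f
  obtain ⟨M, hM, hQM⟩ := Ideal.exists_le_maximal (qD.comap f)
    (Ideal.IsPrime.ne_top (Ideal.comap_isPrime f qD))
  have hMR : M.LiesOver (maximalIdeal R) := by
    refine ⟨?_⟩
    have h1 : maximalIdeal R ≤ M.under R := by
      intro r hr
      have h2 : algebraMap R D r ∈ qD := by
        have := Ideal.LiesOver.over (P := qD) (p := maximalIdeal R)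
        rw [this] at hr
        exact hr
      have h3 : algebraMap R (MvPolynomial (Fin 1) B) r ∈ qD.comap f := by
        rw [Ideal.mem_comap, IsScalarTower.algebraMap_apply R B (MvPolynomial (Fin 1) B),
          AlgHom.commutes, ← IsScalarTower.algebraMap_apply]
        exact h2
      exact hQM h3
    haveI : (M.under R).IsPrime := Ideal.comap_isPrime _ _
    exact (IsLocalRing.maximalIdeal.isMaximal R).eq_of_le (Ideal.IsPrime.ne_top inferInstance) h1
  have heq : (RingHom.ker f).height + qD.height = (qD.comap f).height :=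
    height_add_of_catenary (f : MvPolynomial (Fin 1) B →+* D) hf hker qD M hQM (hcat M hMR)
  obtain ⟨hq, hp, t, t', e1, e2, e3, e4, e5⟩ := exists_dimension_formula f hf qB qD heq
  haveI : IsScalarTower (R ⧸ maximalIdeal R) (B ⧸ qB) (D ⧸ qD) := by
    refine IsScalarTower.of_algebraMap_eq fun r => ?_
    obtain ⟨r, rfl⟩ := Ideal.Quotient.mk_surjective r
    rw [Ideal.Quotient.algebraMap_mk_of_liesOver, Ideal.Quotient.algebraMap_mk_of_liesOver,
      Ideal.Quotient.algebraMap_mk_of_liesOver, ← IsScalarTower.algebraMap_apply]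
  have a1 := trdeg_add_eq R B (A := D)
  have a2 := trdeg_add_eq (R ⧸ maximalIdeal R) (B ⧸ qB) (A := D ⧸ qD)
  rw [← a1, ← a2, e3, e4, ← add_assoc ((maximalIdeal R).height : Cardinal.{u}), ← ih, e1, e2]
  simp only [Cardinal.ofENat_nat]
  have e6 : ((hq : Cardinal.{u}) + t') = hp + t := by exact_mod_cast e5
  rw [add_comm (Algebra.trdeg (R ⧸ maximalIdeal R) (B ⧸ qB)) (t' : Cardinal.{u}), ← add_assoc, e6,
    add_right_comm]

/-- Catenarity transports to polynomial rings over subalgebras. -/
theorem catenary_of_embedding {R B S : Type u} [CommRing R] [CommRing B] [Algebra R B]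
    [Algebra.FiniteType R B] [CommRing S] [Algebra R S] (g : B →ₐ[R] S)
    (hg : Function.Injective g) (m : Ideal R)
    (hcat : ∀ A' : Subalgebra R (Polynomial S), A'.FG →
      ∀ (m' : Ideal A') [m'.IsMaximal], m'.LiesOver m →
        CAlg.IsCatenary (Localization.AtPrime m'))
    (M : Ideal (MvPolynomial (Fin 1) B)) [hM : M.IsMaximal] (hMm : M.LiesOver m) :
    CAlg.IsCatenary (Localization.AtPrime M) := by
  letI : Algebra B S := g.toRingHom.toAlgebra
  haveI : IsScalarTower R B S := IsScalarTower.of_algebraMap_eq fun r => (g.commutes r).symm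
  haveI : FaithfulSMul B S := (faithfulSMul_iff_algebraMap_injective B S).mpr hg
  let φ : MvPolynomial (Fin 1) B →ₐ[R] Polynomial S :=
    (MvPolynomial.aeval (R := B) (fun _ : Fin 1 => (Polynomial.X : Polynomial S))).restrictScalars R
  have hφ : Function.Injective φ := by
    have h1 : AlgebraicIndependent B (fun _ : Fin 1 => (Polynomial.X : Polynomial S)) := by
      rw [algebraicIndependent_unique_type_iff]
      exact (Polynomial.transcendental_X S).restrictScalars (FaithfulSMul.algebraMap_injective B S)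
    exact h1
  let e : MvPolynomial (Fin 1) B ≃ₐ[R] φ.range := AlgEquiv.ofInjective φ hφ
  haveI : Algebra.FiniteType R (MvPolynomial (Fin 1) B) := Algebra.FiniteType.trans (S := B)
    inferInstance inferInstance
  have hFG : φ.range.FG := by
    rw [← Algebra.map_top]
    exact Subalgebra.FG.map _ Algebra.FiniteType.out
  let m' : Ideal φ.range := M.comap (e.symm : φ.range →+* MvPolynomial (Fin 1) B)
  haveI : m'.IsMaximal := Ideal.comap_isMaximal_of_surjective _ e.symm.surjective
  have hm' : m'.LiesOver m := by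
    refine ⟨?_⟩
    rw [hMm.over]
    ext r
    change algebraMap R _ r ∈ M ↔ e.symm (algebraMap R _ r) ∈ M
    rw [AlgEquiv.commutes]
  have h2 := hcat φ.range hFG m' hm'
  have e2 : Localization.AtPrime m' ≃+* Localization.AtPrime M :=
    IsLocalization.ringEquivOfRingEquiv (M := m'.primeCompl) (Localization.AtPrime m')
      (T := M.primeCompl) (Localization.AtPrime M) e.symm.toRingEquiv (by
        ext y
        refine ⟨?_, fun hy => ⟨e y, ?_, e.symm_apply_apply y⟩⟩
        · rintro ⟨x, hx, rfl⟩
          exact hx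
        · intro h
          apply hy
          have : e.symm (e y) ∈ M := h
          rwa [e.symm_apply_apply] at this)
  exact CatOrder.isCatenary_of_ringEquiv e2 h2

theorem adjoin_last {R D : Type*} [CommRing R] [CommRing D] [Algebra R D] {n : ℕ}
    (b : Fin (n + 1) → D) (hb : Algebra.adjoin R (Set.range b) = ⊤) (B : Subalgebra R D)
    (hB : ∀ i, b (Fin.castSucc i) ∈ B) : Algebra.adjoin B {b (Fin.last n)} = ⊤ := by
  rw [eq_top_iff]
  rintro y -
  have h1 : Algebra.adjoin R (Set.range b) ≤
      (Algebra.adjoin B {b (Fin.last n)}).restrictScalars R := by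
    rw [Algebra.adjoin_le_iff]
    rintro _ ⟨i, rfl⟩
    change b i ∈ Algebra.adjoin B {b (Fin.last n)}
    rcases Fin.eq_castSucc_or_eq_last i with ⟨j, rfl⟩ | rfl
    · have h2 := Subalgebra.algebraMap_mem (Algebra.adjoin B {b (Fin.last n)}) ⟨_, hB j⟩
      exact h2
    · exact Algebra.subset_adjoin rfl
  have h2 : y ∈ Algebra.adjoin R (Set.range b) := by rw [hb]; exact Algebra.mem_top
  exact h1 h2

open IsLocalRing in
/-- The altitude formula for all `D ⊂ S` generated by `n` elements. -/
theorem main_aux {R S : Type u} [CommRing R] [IsDomain R] [IsNoetherianRing R] [IsLocalRing R]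
    [CommRing S] [Algebra R S]
    (hcat : ∀ A' : Subalgebra R (Polynomial S), A'.FG →
      ∀ (m' : Ideal A') [m'.IsMaximal], m'.LiesOver (maximalIdeal R) →
        CAlg.IsCatenary (Localization.AtPrime m')) (n : ℕ) :
    ∀ (D : Type u) [CommRing D] [IsDomain D] [Algebra R D] [FaithfulSMul R D] (g : D →ₐ[R] S)
      (_ : Function.Injective g) (b : Fin n → D) (_ : Algebra.adjoin R (Set.range b) = ⊤)
      (q : Ideal D) [q.IsPrime] [q.LiesOver (maximalIdeal R)],
      (q.height : Cardinal.{u}) + Algebra.trdeg (R ⧸ maximalIdeal R) (D ⧸ q) =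
      ((maximalIdeal R).height : Cardinal.{u}) + Algebra.trdeg R D := by
  induction n with
  | zero =>
    intro D _ _ _ _ g hg b hb q _ _
    have hsurj : Function.Surjective (algebraMap R D) := by
      rw [Set.range_eq_empty, Algebra.adjoin_empty] at hb
      intro y
      have : y ∈ (⊥ : Subalgebra R D) := hb ▸ Algebra.mem_top
      exact Algebra.mem_bot.mp this
    have hbij : Function.Bijective (algebraMap R D) :=
      ⟨FaithfulSMul.algebraMap_injective R D, hsurj⟩
    have h1 : (maximalIdeal R).height = q.height := by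
      rw [Ideal.LiesOver.over (P := q) (p := maximalIdeal R)]
      exact RingEquiv.height_comap (RingEquiv.ofBijective _ hbij) q
    haveI : Algebra.IsAlgebraic R D := by
      refine ⟨fun y => ?_⟩
      obtain ⟨r, rfl⟩ := hsurj y
      exact isAlgebraic_algebraMap r
    haveI : Algebra.IsAlgebraic (R ⧸ maximalIdeal R) (D ⧸ q) := by
      refine ⟨fun y => ?_⟩
      obtain ⟨y, rfl⟩ := Ideal.Quotient.mk_surjective y
      obtain ⟨r, rfl⟩ := hsurj y
      exact isAlgebraic_algebraMap (R := R ⧸ maximalIdeal R) (A := D ⧸ q)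
        (Ideal.Quotient.mk (maximalIdeal R) r)
    rw [trdeg_eq_zero, trdeg_eq_zero, h1]
  | succ n ih =>
    intro D _ _ _ _ g hg b hb q _ _
    let B : Subalgebra R D := Algebra.adjoin R (Set.range (b ∘ Fin.castSucc))
    let b' : Fin n → B := fun i => ⟨b i.castSucc, Algebra.subset_adjoin ⟨i, rfl⟩⟩
    have hb' : Algebra.adjoin R (Set.range b') = ⊤ := by
      apply Subalgebra.map_injective (f := B.val) Subtype.val_injective
      rw [AlgHom.map_adjoin, ← Set.range_comp, Algebra.map_top, Subalgebra.range_val]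
      rfl
    haveI : FaithfulSMul R B := by
      rw [faithfulSMul_iff_algebraMap_injective]
      intro x y hxy
      exact FaithfulSMul.algebraMap_injective R D (congrArg (algebraMap B D) hxy)
    haveI : Algebra.FiniteType R B := by
      classical
      refine ⟨⟨Finset.univ.image b', ?_⟩⟩
      rw [Finset.coe_image, Finset.coe_univ, Set.image_univ, hb']
    haveI : IsNoetherianRing B := Algebra.FiniteType.isNoetherianRing R B
    have hx : Algebra.adjoin B {b (Fin.last n)} = ⊤ :=
      adjoin_last b hb B (fun i => Algebra.subset_adjoin ⟨i, rfl⟩)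
    haveI : (q.under B).LiesOver (maximalIdeal R) := by
      refine ⟨?_⟩
      rw [Ideal.under_under, ← Ideal.LiesOver.over (P := q) (p := maximalIdeal R)]
    refine step (b (Fin.last n)) hx (q.under B) q (fun M hM hMR => ?_) ?_
    · exact catenary_of_embedding (g.comp B.val) (hg.comp Subtype.val_injective) _ hcat M hMR
    · exact ih B (g.comp B.val) (hg.comp Subtype.val_injective) b' hb' (q.under B)

open IsLocalRing in
theorem main {R S : Type u} [CommRing R] [IsDomain R] [IsNoetherianRing R] [IsLocalRing R]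
    [CommRing S] [IsDomain S] [Algebra R S] [FaithfulSMul R S] [hft : Algebra.FiniteType R S]
    (q : Ideal S) [q.IsPrime] [q.LiesOver (maximalIdeal R)]
    (hcat : ∀ A' : Subalgebra R (Polynomial S), A'.FG →
      ∀ (m' : Ideal A') [m'.IsMaximal], m'.LiesOver (maximalIdeal R) →
        CAlg.IsCatenary (Localization.AtPrime m')) :
    (q.height : Cardinal.{u}) + Algebra.trdeg (R ⧸ maximalIdeal R) (S ⧸ q) =
      ((maximalIdeal R).height : Cardinal.{u}) + Algebra.trdeg R S := by
  obtain ⟨t, ht⟩ := hft.out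
  refine main_aux hcat t.card S (AlgHom.id R S) Function.injective_id
    (fun i => (t.equivFin.symm i : S)) ?_ q
  rw [← ht]
  congr 1
  ext y
  refine ⟨?_, fun hy => ⟨t.equivFin ⟨y, hy⟩, by simp⟩⟩
  rintro ⟨i, rfl⟩
  exact (t.equivFin.symm i).2

end K109.Altitude
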