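import Groth.Agent.EtpbcB.LocAcycC
import Mathlib.RingTheory.DedekindDomain.AdicValuation
import Mathlib.RingTheory.Valuation.Discrete.IsDiscreteValuationRing

/-!
# The valuation defined by a height one prime of a normal Noetherian overring

Let `A` be a domain with fraction field `K` and `φ : A → B` an injective map to a Noetherian normal
domain. A prime `Q` of height one of `B` defines a `ℤᵐ⁰`-valued valuation of `K`.
-/

set_option autoImplicit false
set_option linter.style.haveILetI false

namespace K109.DvrVal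

open WithZero IsDedekindDomain

variable {A K B : Type*} [CommRing A] [IsDomain A] [Field K] [Algebra A K] [IsFractionRing A K]
  [CommRing B] [IsDomain B] [IsNoetherianRing B] [IsIntegrallyClosed B]

theorem exists_valuation (φ : A →+* B) (hφ : Function.Injective φ) (Q : Ideal B) [Q.IsPrime]
    (hQ : Q.height = 1) :
    ∃ v : Valuation K ℤᵐ⁰, ∀ a b : A, a ≠ 0 →
      (v (algebraMap A K b / algebraMap A K a) ≤ 1 ↔ ∃ s : B, s ∉ Q ∧ φ a ∣ s * φ b) := by
  let O := Localization.AtPrime Q
  haveI : IsPrincipalIdealRing O :=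
    Groth.Agent.EtpbcB.LocAcyc.isPrincipalIdealRing_of_height_one Q hQ O
  have hinjO : Function.Injective (algebraMap B O) :=
    IsLocalization.injective O Q.primeCompl_le_nonZeroDivisors
  haveI : IsDiscreteValuationRing O :=
    { not_a_field' := by
        intro h
        obtain ⟨c, hc, hc0⟩ := Submodule.exists_mem_ne_zero_of_ne_bot
          (Ideal.ne_bot_of_height_eq_one hQ)
        have h3 : algebraMap B O c ∈ IsLocalRing.maximalIdeal O :=
          (IsLocalization.AtPrime.to_map_mem_maximal_iff O Q c).mpr hc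
        rw [h, Ideal.mem_bot] at h3
        exact hc0 (hinjO (h3.trans (map_zero _).symm)) }
  let F := FractionRing O
  let w : HeightOneSpectrum O := IsDiscreteValuationRing.maximalIdeal O
  have hw : ∀ w' : HeightOneSpectrum O, w' = w := by
    intro w'
    ext1
    exact IsLocalRing.eq_maximalIdeal (w'.isPrime.isMaximal w'.ne_bot)
  have hinjF : Function.Injective (algebraMap O F) := IsFractionRing.injective O F
  let θ0 : A →+* F := ((algebraMap O F).comp (algebraMap B O)).comp φ
  have hθ0 : Function.Injective θ0 := hinjF.comp (hinjO.comp hφ)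
  let θ : K →+* F := IsFractionRing.lift hθ0
  have hθ : ∀ a : A, θ (algebraMap A K a) = algebraMap O F (algebraMap B O (φ a)) := fun a =>
    IsFractionRing.lift_algebraMap hθ0 a
  refine ⟨(w.valuation F).comap θ, fun a b ha => ?_⟩
  have ha1 : φ a ≠ 0 := fun h => ha (hφ (h.trans (map_zero _).symm))
  have ha2 : algebraMap B O (φ a) ≠ 0 := fun h => ha1 (hinjO (h.trans (map_zero _).symm))
  have ha3 : algebraMap O F (algebraMap B O (φ a)) ≠ 0 := fun h =>
    ha2 (hinjF (h.trans (map_zero _).symm))
  rw [Valuation.comap_apply, map_div₀, hθ, hθ]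
  have h1 : w.valuation F (algebraMap O F (algebraMap B O (φ b)) /
      algebraMap O F (algebraMap B O (φ a))) ≤ 1 ↔
      ∃ o : O, algebraMap B O (φ b) = o * algebraMap B O (φ a) := by
    constructor
    · intro h
      obtain ⟨o, ho⟩ := HeightOneSpectrum.mem_integers_of_valuation_le_one (R := O) F _
        (fun w' => (hw w') ▸ h)
      refine ⟨o, hinjF ?_⟩
      rw [map_mul, ho, div_mul_cancel₀ _ ha3]
    · rintro ⟨o, ho⟩
      rw [ho, map_mul, mul_div_cancel_right₀ _ ha3]
      exact HeightOneSpectrum.valuation_le_one w o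
  rw [h1]
  constructor
  · rintro ⟨o, ho⟩
    obtain ⟨β, s, rfl⟩ := IsLocalization.exists_mk'_eq Q.primeCompl o
    refine ⟨s, s.2, β, ?_⟩
    apply hinjO
    rw [map_mul, map_mul, ho, ← mul_assoc, IsLocalization.mk'_spec'_mk, mul_comm]
  · rintro ⟨s, hs, β, hβ⟩
    have hs' : s ∈ Q.primeCompl := hs
    refine ⟨IsLocalization.mk' O β (⟨s, hs'⟩ : Q.primeCompl), ?_⟩
    have hs0 : algebraMap B O s ≠ 0 := fun h => hs (by
      have h2 : s = 0 := hinjO (h.trans (map_zero _).symm)
      rw [h2]
      exact zero_mem _)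
    apply mul_left_cancel₀ hs0
    rw [← mul_assoc, IsLocalization.mk'_spec'_mk, ← map_mul, ← map_mul, hβ, mul_comm]

section

omit [IsNoetherianRing B] [IsIntegrallyClosed B]

variable {φ : A →+* B} {Q : Ideal B} [Q.IsPrime] {v : Valuation K ℤᵐ⁰}
  (hv : ∀ a b : A, a ≠ 0 →
      (v (algebraMap A K b / algebraMap A K a) ≤ 1 ↔ ∃ s : B, s ∉ Q ∧ φ a ∣ s * φ b))

include hv

theorem le_one_of_map (u : K) (a b : A) (ha : a ≠ 0)
    (hu : algebraMap A K b / algebraMap A K a = u) (β : B) (hβ : φ b = φ a * β) : v u ≤ 1 := by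
  rw [← hu, hv a b ha]
  exact ⟨1, fun h => ‹Q.IsPrime›.ne_top ((Ideal.eq_top_iff_one Q).mpr h), β, by rw [one_mul, hβ]⟩

theorem lt_one_iff_of_map (hφ : Function.Injective φ) (u : K) (a b : A) (ha : a ≠ 0)
    (hu : algebraMap A K b / algebraMap A K a = u) (β : B) (hβ : φ b = φ a * β) :
    v u < 1 ↔ β ∈ Q := by
  have ha1 : φ a ≠ 0 := fun h => ha (hφ (h.trans (map_zero _).symm))
  by_cases hb : b = 0
  · subst hb
    have hβ0 : β = 0 := by
      rw [map_zero] at hβ
      exact (mul_eq_zero.mp hβ.symm).resolve_left ha1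
    rw [← hu, map_zero, zero_div, map_zero, hβ0]
    exact ⟨fun _ => zero_mem _, fun _ => zero_lt_one⟩
  · have hbK : algebraMap A K b ≠ 0 := fun h =>
      hb (IsFractionRing.injective A K (h.trans (map_zero _).symm))
    have haK : algebraMap A K a ≠ 0 := fun h =>
      ha (IsFractionRing.injective A K (h.trans (map_zero _).symm))
    have hu0 : u ≠ 0 := by
      rw [← hu]
      exact div_ne_zero hbK haK
    have h1 := hv b a hb
    have h2 : algebraMap A K a / algebraMap A K b = u⁻¹ := by rw [← hu, inv_div]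
    rw [h2, map_inv₀, inv_le_one₀ (zero_lt_iff.mpr (v.ne_zero_iff.mpr hu0))] at h1
    rw [← not_le, h1]
    constructor
    · intro h
      by_contra hβQ
      exact h ⟨β, hβQ, 1, by rw [hβ]; ring⟩
    · rintro hβQ ⟨s, hs, t, ht⟩
      apply hs
      rw [hβ, mul_comm s, mul_assoc] at ht
      rw [mul_left_cancel₀ ha1 ht]
      exact Ideal.mul_mem_right _ _ hβQ

theorem lt_one_iff (hφ : Function.Injective φ) (a : A) :
    v (algebraMap A K a) < 1 ↔ φ a ∈ Q :=
  lt_one_iff_of_map hv hφ _ 1 a one_ne_zero (by rw [map_one, div_one]) _ (by rw [map_one, one_mul])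

end

end K109.DvrVal
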