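import Mathlib.RingTheory.Valuation.Basic
import Mathlib.RingTheory.Localization.FractionRing
import Mathlib.Algebra.Order.GroupWithZero.Canonical
import Mathlib.Data.Set.Finite.Basic
import Mathlib.Algebra.BigOperators.Group.Finset.Basic
import Mathlib.Algebra.Order.BigOperators.Group.Finset
import Mathlib.Tactic.Linarith

/-!
# Domains which are intersections of a finite-character family of discrete valuation rings

`exists_prime`: let `R` be a domain with fraction field `K`, `v i` a family of `ℤᵐ⁰`-valued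
valuations on `K` such that `R = {x | ∀ i, v i x ≤ 1}` and, for every `x`, only finitely many `i`
have `1 < v i x`. Every `x ∉ R` is outside the localization of `R` at some prime `P` of height one
which is the centre of one of the `v i`.
-/

set_option autoImplicit false

namespace K109.KrullFam

open WithZero

variable {R K ι : Type*} [CommRing R] [IsDomain R] [Field K] [Algebra R K] [IsFractionRing R K]

theorem exists_one_lt_mul_pow {c y : ℤᵐ⁰} (hc : c ≠ 0) (hy : 1 < y) : ∃ n : ℕ, 1 < c * y ^ n := by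
  have hy0 : y ≠ 0 := (zero_lt_one.trans hy).ne'
  have hly : 0 < log y := by
    rw [← log_one (M := ℤ)]
    exact (log_lt_log one_ne_zero hy0).mpr hy
  refine ⟨(log c).natAbs + 1, ?_⟩
  rw [← log_lt_log one_ne_zero (mul_ne_zero hc (pow_ne_zero _ hy0)), log_one,
    log_mul hc (pow_ne_zero _ hy0), log_pow, nsmul_eq_mul]
  have h1 : -|log c| ≤ log c := neg_abs_le _
  have h2 : (((log c).natAbs + 1 : ℕ) : ℤ) * 1 ≤ (((log c).natAbs + 1 : ℕ) : ℤ) * log y :=
    mul_le_mul_of_nonneg_left (by omega) (by omega)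
  push_cast at h2 ⊢
  linarith

theorem exists_mul_pow_le_one {c y : ℤᵐ⁰} (hc : c < 1) : ∃ n : ℕ, c ^ n * y ≤ 1 := by
  by_cases hy : y = 0
  · exact ⟨0, by simp [hy]⟩
  by_cases hc0 : c = 0
  · exact ⟨1, by simp [hc0]⟩
  obtain ⟨n, hn⟩ := exists_one_lt_mul_pow (inv_ne_zero hy) ((one_lt_inv₀ (zero_lt_iff.mpr hc0)).mpr hc)
  refine ⟨n, ?_⟩
  have h1 : (y⁻¹ * c⁻¹ ^ n)⁻¹ < 1 := inv_lt_one_of_one_lt₀ hn
  have h2 : (y⁻¹ * c⁻¹ ^ n)⁻¹ = c ^ n * y := by
    rw [mul_inv_rev, inv_inv, inv_pow, inv_inv]
  rw [h2] at h1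
  exact h1.le

variable (v : ι → Valuation K ℤᵐ⁰)

theorem exists_prime (hv : ∀ x : K, (∀ i, v i x ≤ 1) ↔ ∃ r : R, algebraMap R K r = x)
    (hfin : ∀ x : K, {i | 1 < v i x}.Finite) (x : K) (hx : ¬ ∃ r : R, algebraMap R K r = x) :
    ∃ (P : Ideal R) (i : ι), P.IsPrime ∧ P ≠ ⊥ ∧ 1 < v i x ∧
      (∀ s, s ∉ P → ¬ ∃ r, algebraMap R K r = algebraMap R K s * x) ∧
      (∀ P1 : Ideal R, P1.IsPrime → P1 ≠ ⊥ → P1 ≤ P → P1 = P) ∧
      (∀ u : R, u ∈ P ↔ v i (algebraMap R K u) < 1) := by
  classical
  have hinj : Function.Injective (algebraMap R K) := IsFractionRing.injective R K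
  have hR : ∀ (i : ι) (r : R), v i (algebraMap R K r) ≤ 1 := fun i r => (hv _).mpr ⟨r, rfl⟩ i
  let S : Finset ι := (hfin x).toFinset
  have hS : ∀ i, i ∈ S ↔ 1 < v i x := fun i => by simp [S]
  let N : K → ℕ := fun y => ∑ i ∈ S, (log (v i y)).toNat
  -- minimize
  obtain ⟨z, hz, hmin⟩ : ∃ z : R, (¬ ∃ r, algebraMap R K r = algebraMap R K z * x) ∧
      ∀ z' : R, (¬ ∃ r, algebraMap R K r = algebraMap R K z' * x) →
        N (algebraMap R K z * x) ≤ N (algebraMap R K z' * x) := by
    have hne : ∃ n : ℕ, ∃ z : R, (¬ ∃ r, algebraMap R K r = algebraMap R K z * x) ∧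
        N (algebraMap R K z * x) = n :=
      ⟨_, 1, by simpa using hx, rfl⟩
    obtain ⟨z, hz, hzn⟩ := Nat.find_spec hne
    refine ⟨z, hz, fun z' hz' => ?_⟩
    rw [hzn]
    exact Nat.find_min' hne ⟨z', hz', rfl⟩
  set y : K := algebraMap R K z * x with hy
  -- the valuations which are large on `y`
  have hy1 : ∃ i, 1 < v i y := by
    by_contra hcon
    push Not at hcon
    exact hz ((hv y).mp hcon)
  obtain ⟨i, hi⟩ := hy1
  have hlex : ∀ (j : ι), v j y ≤ v j x := fun j => by
    rw [hy, map_mul]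
    exact mul_le_of_le_one_left' (hR j z)
  have hiS : i ∈ S := (hS i).mpr (hi.trans_le (hlex i))
  have hyi0 : v i y ≠ 0 := (zero_lt_one.trans hi).ne'
  have hy0 : y ≠ 0 := fun h => hyi0 (by rw [h, map_zero])
  -- `u y ∉ R` implies `v i u = 1`
  have hkey : ∀ u : R, (¬ ∃ r, algebraMap R K r = algebraMap R K u * y) →
      v i (algebraMap R K u) = 1 := by
    intro u hu
    have hu' : ¬ ∃ r, algebraMap R K r = algebraMap R K (u * z) * x := by
      rw [map_mul, mul_assoc]
      exact hu
    have h1 := hmin (u * z) hu'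
    have h2 : algebraMap R K (u * z) * x = algebraMap R K u * y := by rw [map_mul, mul_assoc]
    rw [h2] at h1
    have hle : ∀ j ∈ S, (log (v j (algebraMap R K u * y))).toNat ≤ (log (v j y)).toNat := by
      intro j _
      by_cases h0 : v j (algebraMap R K u * y) = 0
      · rw [h0, log_zero]; simp
      · have h0' : v j y ≠ 0 := fun h => h0 (by rw [map_mul, h, mul_zero])
        apply Int.toNat_le_toNat
        rw [log_le_log h0 h0', map_mul]
        exact mul_le_of_le_one_left' (hR j u)
    have heq : (log (v i (algebraMap R K u * y))).toNat = (log (v i y)).toNat := by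
      refine le_antisymm (hle i hiS) ?_
      by_contra hlt
      push Not at hlt
      exact absurd h1 (not_le.mpr (Finset.sum_lt_sum hle ⟨i, hiS, hlt⟩))
    have hpos : 0 < log (v i y) := by
      rw [← log_one (M := ℤ)]
      exact (log_lt_log one_ne_zero hyi0).mpr hi
    have h0 : v i (algebraMap R K u * y) ≠ 0 := by
      intro h
      rw [h, log_zero] at heq
      simp only [Int.toNat_zero] at heq
      omega
    have hlog : log (v i (algebraMap R K u * y)) = log (v i y) := by omega
    have hu0 : v i (algebraMap R K u) ≠ 0 := fun h => h0 (by rw [map_mul, h, zero_mul])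
    rw [map_mul, log_mul hu0 hyi0] at hlog
    have hlog' : log (v i (algebraMap R K u)) = 0 := by omega
    rw [← exp_log hu0, hlog', exp_zero]
  let P : Ideal R :=
    { carrier := {u | ∃ r, algebraMap R K r = algebraMap R K u * y}
      add_mem' := by
        rintro a b ⟨r, hr⟩ ⟨s, hs⟩
        exact ⟨r + s, by rw [map_add, map_add, hr, hs, add_mul]⟩
      zero_mem' := ⟨0, by rw [map_zero, zero_mul]⟩
      smul_mem' := by
        rintro a b ⟨r, hr⟩
        exact ⟨a * r, by rw [map_mul, smul_eq_mul, map_mul, hr, mul_assoc]⟩ }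
  have hPmem : ∀ u : R, u ∈ P ↔ ∃ r, algebraMap R K r = algebraMap R K u * y := fun u => Iff.rfl
  have hPv : ∀ u : R, u ∈ P ↔ v i (algebraMap R K u) < 1 := by
    intro u
    refine ⟨fun hu => ?_, fun hu => ?_⟩
    · obtain ⟨r, hr⟩ := (hPmem u).mp hu
      by_contra hcon
      push Not at hcon
      have h1 : v i (algebraMap R K r) ≤ 1 := hR i r
      rw [hr, map_mul] at h1
      have h2 : 1 < v i (algebraMap R K u) * v i y :=
        lt_of_lt_of_le hi (le_mul_of_one_le_left' hcon)
      exact absurd h1 (not_le.mpr h2)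
    · by_contra hcon
      exact absurd (hkey u hcon) hu.ne
  have hPprime : P.IsPrime := by
    rw [Ideal.isPrime_iff]
    refine ⟨?_, ?_⟩
    · rw [Ne, Ideal.eq_top_iff_one, hPv, map_one, map_one]
      exact lt_irrefl _
    · intro a b hab
      rw [hPv, map_mul, map_mul] at hab
      rw [hPv, hPv]
      by_contra hcon
      push Not at hcon
      exact absurd hab (not_lt.mpr (one_le_mul_of_one_le_of_one_le hcon.1 hcon.2))
  -- an element `c ∈ P` with `c y ∉ P`
  obtain ⟨a, b, hb, hab⟩ := IsFractionRing.div_surjective (A := R) y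
  have hb0 : b ≠ 0 := nonZeroDivisors.ne_zero hb
  have hbK : algebraMap R K b ≠ 0 := fun h => hb0 (hinj (by rw [h, map_zero]))
  have hbP : b ∈ P := ⟨a, by rw [← hab, mul_div_cancel₀ _ hbK]⟩
  have hPbot : P ≠ ⊥ := fun h => hb0 (by rw [h] at hbP; exact hbP)
  obtain ⟨c, hcP, t, hct, htP⟩ : ∃ c ∈ P, ∃ t : R, algebraMap R K t = algebraMap R K c * y ∧
      t ∉ P := by
    by_contra hcon
    push Not at hcon
    have hn : ∀ n : ℕ, ∃ t ∈ P, algebraMap R K t = algebraMap R K b * y ^ n := by
      intro n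
      induction n with
      | zero => exact ⟨b, hbP, by simp⟩
      | succ n ih =>
        obtain ⟨t, ht, hte⟩ := ih
        obtain ⟨r, hr⟩ := (hPmem t).mp ht
        refine ⟨r, hcon t ht r hr, ?_⟩
        rw [hr, hte, pow_succ, mul_assoc]
    obtain ⟨n, hn'⟩ := exists_one_lt_mul_pow (c := v i (algebraMap R K b)) (y := v i y)
      ((v i).ne_zero_iff.mpr hbK) hi
    obtain ⟨t, -, ht⟩ := hn n
    have h1 := hR i t
    rw [ht, map_mul, map_pow] at h1
    exact absurd h1 (not_le.mpr hn')
  refine ⟨P, i, hPprime, hPbot, hi.trans_le (hlex i), ?_, ?_, hPv⟩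
  · rintro s hs ⟨r, hr⟩
    apply hs
    refine ⟨z * r, ?_⟩
    rw [map_mul, hr, hy]
    ring
  · intro P1 hP1 hP1bot hle
    refine le_antisymm hle ?_
    by_cases hc : c ∈ P1
    · intro u hu
      obtain ⟨w, hw⟩ := (hPmem u).mp hu
      have h1 : u * t = c * w := by
        apply hinj
        rw [map_mul, map_mul, hct, hw]
        ring
      have h2 : u * t ∈ P1 := h1 ▸ Ideal.mul_mem_right _ _ hc
      exact (hP1.mem_or_mem h2).resolve_right fun h => htP (hle h)
    · exfalso
      obtain ⟨b', hb'P1, hb'0⟩ := Submodule.exists_mem_ne_zero_of_ne_bot hP1bot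
      have hb'K : algebraMap R K b' ≠ 0 := fun h => hb'0 (hinj (by rw [h, map_zero]))
      have hn : ∀ n : ℕ, ∃ w ∈ P1, algebraMap R K w = algebraMap R K b' * y ^ n := by
        intro n
        induction n with
        | zero => exact ⟨b', hb'P1, by simp⟩
        | succ n ih =>
          obtain ⟨w, hw, hwe⟩ := ih
          obtain ⟨r, hr⟩ := (hPmem w).mp (hle hw)
          refine ⟨r, ?_, by rw [hr, hwe, pow_succ, mul_assoc]⟩
          have h1 : c * r = w * t := by
            apply hinj
            rw [map_mul, map_mul, hct, hr]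
            ring
          have h2 : c * r ∈ P1 := h1 ▸ Ideal.mul_mem_right _ _ hw
          exact (hP1.mem_or_mem h2).resolve_left hc
      obtain ⟨n, hn'⟩ := exists_one_lt_mul_pow (c := v i (algebraMap R K b')) (y := v i y)
        ((v i).ne_zero_iff.mpr hb'K) hi
      obtain ⟨w, -, hw⟩ := hn n
      have h1 := hR i w
      rw [hw, map_mul, map_pow] at h1
      exact absurd h1 (not_le.mpr hn')

end K109.KrullFam
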