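import Groth.Agent.CAlg.K109.MoriTensor
import Groth.Agent.EtpbcB.LocAcycRam
import Groth.Agent.Etbc.H192.CplInt
import Groth.Agent.Etalg.NormalDvr

/-!
# The valuations of `K` coming from the normalizations of the components of a faithfully flat algebra

Let `A` be a Noetherian domain, `A → Ah` faithfully flat with `Ah` Noetherian, and suppose that for
every minimal prime `P` of `Ah` the domain `Ah/P` has a Noetherian integral closure, with a nonzero
conductor. The height one primes of these integral closures define a family of valuations of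
`K = Frac A` with the properties needed in `K109.MoriMain.main`.
-/

set_option autoImplicit false
set_option linter.style.haveILetI false
set_option linter.unusedSectionVars false

universe u

namespace K109.MoriFam

open WithZero K109.DvrVal K109.MoriTensor Groth.Agent.EtpbcB.LocAcycRam Polynomial

theorem finite_height_one {B : Type*} [CommRing B] [IsDomain B] [IsNoetherianRing B] (t : B)
    (ht : t ≠ 0) : {Q : {Q : Ideal B // Q.IsPrime ∧ Q.height = 1} | t ∈ Q.1}.Finite := by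
  have h1 : (Ideal.span {t}).minimalPrimes.Finite :=
    Ideal.finite_minimalPrimes_of_isNoetherianRing B (Ideal.span {t})
  refine Set.Finite.of_injOn (f := Subtype.val) (t := (Ideal.span {t}).minimalPrimes) ?_
    Subtype.val_injective.injOn h1
  rintro ⟨Q, hQ, hQ1⟩ htQ
  haveI := hQ
  obtain ⟨q, hq, hqQ⟩ := Ideal.exists_minimalPrimes_le
    ((Ideal.span_singleton_le_iff_mem Q).mpr htQ)
  haveI : q.IsPrime := hq.1.1
  have hq0 : q ≠ ⊥ := by
    rintro rfl
    exact ht (hq.1.2 (Ideal.mem_span_singleton_self t))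
  have h2 : q = Q := eq_of_height_le_one hQ1.le hqQ hq0
  exact h2 ▸ hq

theorem exists_family {A Ah K : Type u} [CommRing A] [IsDomain A] [CommRing Ah] [IsNoetherianRing Ah]
    [Algebra A Ah] [Module.FaithfullyFlat A Ah] [Field K] [Algebra A K] [IsFractionRing A K]
    (h : ∀ P : Ideal Ah, P ∈ minimalPrimes Ah → ∃ (B : Type u) (_ : CommRing B) (_ : IsDomain B)
      (_ : IsNoetherianRing B) (_ : IsIntegrallyClosed B) (j : Ah →+* B), RingHom.ker j = P ∧
      j.IsIntegral ∧ ∃ d : Ah, d ∉ P ∧ ∀ β : B, ∃ a : Ah, j a = j d * β) :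
    ∃ (ι : Type u) (v : ι → Valuation K ℤᵐ⁰) (T : Set ι),
      (∀ x : K, (∀ i, v i x ≤ 1) ↔ IsIntegral A x) ∧ (∀ x : K, {i | 1 < v i x}.Finite) ∧
      T.Finite ∧ ∀ i ∉ T, ∀ P : Ideal (integralClosure A K), P.IsPrime →
      (∀ a : A, algebraMap A (integralClosure A K) a ∈ P ↔ v i (algebraMap A K a) < 1) →
      ∀ u, u ∈ P ↔ v i (u : K) < 1 := by
  classical
  have hσfin : (minimalPrimes Ah).Finite := minimalPrimes.finite_of_isNoetherianRing Ah
  let σ := {P : Ideal Ah // P ∈ minimalPrimes Ah}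
  haveI : Finite σ := hσfin.to_subtype
  have h' : ∀ P : σ, ∃ (B : Type u) (_ : CommRing B) (_ : IsDomain B)
      (_ : IsNoetherianRing B) (_ : IsIntegrallyClosed B) (j : Ah →+* B), RingHom.ker j = P.1 ∧
      j.IsIntegral ∧ ∃ d : Ah, d ∉ P.1 ∧ ∀ β : B, ∃ a : Ah, j a = j d * β := fun P => h P.1 P.2
  choose B i1 i2 i3 i4 j hjker hjint d hd hcond using h'
  letI (P : σ) : CommRing (B P) := i1 P
  haveI (P : σ) : IsDomain (B P) := i2 P
  haveI (P : σ) : IsNoetherianRing (B P) := i3 P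
  haveI (P : σ) : IsIntegrallyClosed (B P) := i4 P
  have hjmem : ∀ (P : σ) (t : Ah), j P t = 0 ↔ t ∈ P.1 := fun P t => by
    rw [← hjker P, RingHom.mem_ker]
  let φ : ∀ P : σ, A →+* B P := fun P => (j P).comp (algebraMap A Ah)
  have hφ : ∀ P, Function.Injective (φ P) := fun P => by
    rw [injective_iff_map_eq_zero]
    intro a ha
    exact comap_eq_bot_of_mem_minimalPrimes P.1 P.2 a ((hjmem P _).mp ha)
  have hψ' : ∀ P : σ, ∃ ψ : integralClosure A K →+* B P,
      ∀ a : A, ψ (algebraMap A (integralClosure A K) a) = φ P a := fun P =>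
    exists_ringHom (φ P) (hφ P)
  choose ψ hψ using hψ'
  let ι := Σ P : σ, {Q : Ideal (B P) // Q.IsPrime ∧ Q.height = 1}
  have hv' : ∀ i : ι, ∃ v : Valuation K ℤᵐ⁰, ∀ a b : A, a ≠ 0 →
      (v (algebraMap A K b / algebraMap A K a) ≤ 1 ↔ ∃ s : B i.1, s ∉ i.2.1 ∧
        φ i.1 a ∣ s * φ i.1 b) := fun i => by
    haveI := i.2.2.1
    exact exists_valuation (φ i.1) (hφ i.1) i.2.1 i.2.2.2
  choose v hv using hv'
  -- the value on elements of `A'`
  have hdiv : ∀ u : integralClosure A K, ∃ a b : A, a ≠ 0 ∧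
      algebraMap A K b / algebraMap A K a = (u : K) ∧ ∀ P, φ P b = φ P a * ψ P u := by
    intro u
    obtain ⟨b, a, ha, hab⟩ := IsFractionRing.div_surjective (A := A) (u : K)
    have ha0 : a ≠ 0 := nonZeroDivisors.ne_zero ha
    have haK : algebraMap A K a ≠ 0 := fun h =>
      ha0 (IsFractionRing.injective A K (h.trans (map_zero _).symm))
    refine ⟨a, b, ha0, hab, fun P => ?_⟩
    rw [← hψ, ← hψ, ← map_mul]
    congr 1
    apply Subtype.ext
    change algebraMap A K b = algebraMap A K a * (u : K)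
    rw [← hab, mul_div_cancel₀ _ haK]
  have hvA' : ∀ (i : ι) (u : integralClosure A K), v i (u : K) < 1 ↔ ψ i.1 u ∈ i.2.1 := by
    intro i u
    obtain ⟨a, b, ha, hab, hP⟩ := hdiv u
    haveI := i.2.2.1
    exact lt_one_iff_of_map (hv i) (hφ i.1) _ a b ha hab _ (hP i.1)
  have hvle : ∀ (i : ι) (x : K), IsIntegral A x → v i x ≤ 1 := by
    intro i x hx
    obtain ⟨a, b, ha, hab, hP⟩ := hdiv ⟨x, hx⟩
    haveI := i.2.2.1
    exact le_one_of_map (hv i) _ a b ha hab _ (hP i.1)
  -- the exceptional set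
  let T : Set ι := {i | j i.1 (d i.1) ∈ i.2.1 ∨ ∃ P' : σ, P' ≠ i.1 ∧ ∀ t ∈ P'.1, j i.1 t ∈ i.2.1}
  have hsig : ∀ S : Set ι, (∀ P : σ, {Q | (⟨P, Q⟩ : ι) ∈ S}.Finite) → S.Finite := by
    intro S hS
    have h1 : S ⊆ ⋃ P : σ, (fun Q => (⟨P, Q⟩ : ι)) '' {Q | (⟨P, Q⟩ : ι) ∈ S} := by
      rintro ⟨P, Q⟩ hPQ
      exact Set.mem_iUnion.mpr ⟨P, Q, hPQ, rfl⟩
    exact (Set.finite_iUnion fun P => (hS P).image _).subset h1
  refine ⟨ι, v, T, ?_, ?_, ?_, ?_⟩
  · intro x
    refine ⟨fun hx => ?_, fun hx i => hvle i x hx⟩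
    obtain ⟨b, a, ha, hab⟩ := IsFractionRing.div_surjective (A := A) x
    have ha0 : a ≠ 0 := nonZeroDivisors.ne_zero ha
    have haK : algebraMap A K a ≠ 0 := fun h =>
      ha0 (IsFractionRing.injective A K (h.trans (map_zero _).symm))
    haveI : Nontrivial Ah := (FaithfulSMul.algebraMap_injective A Ah).nontrivial
    obtain ⟨F, hF, hF0⟩ := Groth.Agent.Etbc.H192.CplInt.exists_scaleRoots_of_minimalPrimes
      (algebraMap A Ah a) (algebraMap A Ah b) (fun P hP => by
        have h1 : φ ⟨P, hP⟩ b ∈ Ideal.span {φ ⟨P, hP⟩ a} := by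
          refine Groth.Agent.Etalg.NormalDvr.mem_span_of_forall_height_one _ ?_ ?_
          · exact fun h => ha0 (hφ ⟨P, hP⟩ (h.trans (map_zero _).symm))
          · intro Q hQ hQ1
            have h2 := hx ⟨⟨P, hP⟩, Q, hQ, hQ1⟩
            rw [← hab, hv _ a b ha0] at h2
            obtain ⟨s, hs, hsa⟩ := h2
            exact ⟨s, hs, Ideal.mem_span_singleton.mpr hsa⟩
        obtain ⟨β, hβ⟩ := Ideal.mem_span_singleton.mp h1
        obtain ⟨F, hF, hFβ⟩ := hjint ⟨P, hP⟩ β
        refine ⟨F, hF, ?_⟩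
        rw [← hjmem ⟨P, hP⟩]
        have h3 : eval₂ (j ⟨P, hP⟩) (j ⟨P, hP⟩ (algebraMap A Ah a) * β)
            (F.scaleRoots (algebraMap A Ah a)) =
            j ⟨P, hP⟩ (algebraMap A Ah a) ^ F.natDegree * eval₂ (j ⟨P, hP⟩) β F :=
          scaleRoots_eval₂_mul (j ⟨P, hP⟩) β (algebraMap A Ah a)
        have h4 : j ⟨P, hP⟩ (algebraMap A Ah a) * β = j ⟨P, hP⟩ (algebraMap A Ah b) := hβ.symm
        rw [hFβ, mul_zero, h4, eval₂_at_apply] at h3
        exact h3)
    exact Groth.Agent.Etbc.H192.CplInt.isIntegral_of_scaleRoots a b F hF hF0 x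
      (by rw [← hab, mul_div_cancel₀ _ haK]) haK
  · intro x
    obtain ⟨b, a, ha, hab⟩ := IsFractionRing.div_surjective (A := A) x
    have ha0 : a ≠ 0 := nonZeroDivisors.ne_zero ha
    have haK : algebraMap A K a ≠ 0 := fun h =>
      ha0 (IsFractionRing.injective A K (h.trans (map_zero _).symm))
    refine hsig _ fun P => ?_
    refine (finite_height_one (φ P a) fun h => ha0 (hφ P (h.trans (map_zero _).symm))).subset ?_
    intro Q hQ
    have hQ' : 1 < v ⟨P, Q⟩ x := hQ
    change φ P a ∈ Q.1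
    haveI := Q.2.1
    rw [← lt_one_iff (hv ⟨P, Q⟩) (hφ P) a]
    by_contra hcon
    push Not at hcon
    have h2 : v ⟨P, Q⟩ x * v ⟨P, Q⟩ (algebraMap A K a) ≤ 1 := by
      rw [← map_mul, ← hab, div_mul_cancel₀ _ haK]
      exact hvle _ _ isIntegral_algebraMap
    exact absurd ((le_mul_of_one_le_right' hcon).trans h2) (not_le.mpr hQ')
  · refine hsig _ fun P => ?_
    have h1 : {Q | (⟨P, Q⟩ : ι) ∈ T} ⊆ {Q | j P (d P) ∈ Q.1} ∪
        ⋃ P' : {P' : σ // P' ≠ P}, {Q | ∀ t ∈ P'.1.1, j P t ∈ Q.1} := by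
      rintro Q (hQ | ⟨P', hP', hQ⟩)
      · exact Or.inl hQ
      · exact Or.inr (Set.mem_iUnion.mpr ⟨⟨P', hP'⟩, hQ⟩)
    refine (Set.Finite.union ?_ (Set.finite_iUnion fun P' => ?_)).subset h1
    · exact finite_height_one _ fun h => hd P ((hjmem P _).mp h)
    · have hle : ¬ P'.1.1 ≤ P.1 := fun hle =>
        P'.2 (Subtype.ext (le_antisymm hle (P.2.2 P'.1.2.1 hle)))
      obtain ⟨t, ht1, ht2⟩ := Set.not_subset.mp hle
      refine (finite_height_one (j P t) fun h => ht2 ((hjmem P _).mp h)).subset ?_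
      intro Q hQ
      exact hQ t ht1
  · intro i hi P1 hP1 hcomap u
    haveI := i.2.2.1
    let q : Ideal Ah := i.2.1.comap (j i.1)
    haveI : q.IsPrime := Ideal.comap_isPrime _ _
    have hP1q : P1.comap (algebraMap A (integralClosure A K)) = q.comap (algebraMap A Ah) := by
      ext a
      rw [Ideal.mem_comap, hcomap a, lt_one_iff (hv i) (hφ i.1) a]
      rfl
    obtain ⟨P', Q', hQ', hQ'q, hQ'P⟩ := exists_prime_over j hjint (fun t ht => by
      rw [← mem_nilradical, nilradical, ← Ideal.sInf_minimalPrimes, Submodule.mem_sInf]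
      intro P hP
      exact (hjmem ⟨P, hP⟩ t).mp (ht ⟨P, hP⟩)) ψ hψ P1 q hP1q
    have hPP : P' = i.1 := by
      by_contra hne
      refine hi (Or.inr ⟨P', hne, fun t ht => ?_⟩)
      have h1 : t ∈ q := by
        rw [← hQ'q, Ideal.mem_comap, (hjmem P' t).mpr ht]
        exact zero_mem _
      exact h1
    subst hPP
    have hdq : d i.1 ∉ q := fun h => hi (Or.inl h)
    have hQQ : Q' = i.2.1 := by
      ext β
      obtain ⟨a, ha⟩ := hcond i.1 β
      have h1 : β ∈ Q' ↔ a ∈ q := by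
        rw [← hQ'q, Ideal.mem_comap, ha]
        refine ⟨fun h => Ideal.mul_mem_left _ _ h, fun h => (hQ'.mem_or_mem h).resolve_left ?_⟩
        intro h2
        apply hdq
        rw [← hQ'q, Ideal.mem_comap]
        exact h2
      have h2 : β ∈ i.2.1 ↔ a ∈ q := by
        rw [Ideal.mem_comap, ha]
        exact ⟨fun h => Ideal.mul_mem_left _ _ h, fun h =>
          (i.2.2.1.mem_or_mem h).resolve_left hdq⟩
      rw [h1, h2]
    rw [hvA', ← hQ'P, Ideal.mem_comap, hQQ]

end K109.MoriFam
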