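import Groth.Agent.Ega41.SemiLocal
import Groth.Agent.Lipman.NagataIn

/-!
# Finite fibres of the normalization, and the normalization of the components of the completion

* `finite_fibre`: an integral generically finite extension domain `D` of a Noetherian domain `A` has
  only finitely many primes over a given prime of `A`.
* `exists_normalization`: the hypothesis of `K109.MoriFam.exists_family` for a Nagata ring.
-/

set_option autoImplicit false
set_option linter.style.haveILetI false
set_option linter.unusedSectionVars false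

universe u

namespace K109.MoriFib

open Groth.Agent.Ega41.GenFin IsLocalRing

theorem finite_fibre {A D : Type u} [CommRing A] [IsDomain A] [IsNoetherianRing A] [CommRing D]
    [IsDomain D] [Algebra A D] [Algebra.IsIntegral A D] (hinj : Function.Injective (algebraMap A D))
    (h : GF A (⊥ : Ideal D)) (p : Ideal A) [p.IsPrime] :
    {P : Ideal D | P.IsPrime ∧ P.comap (algebraMap A D) = p}.Finite := by
  classical
  let S : Submonoid A := p.primeCompl
  let F₁ := Localization.AtPrime p
  let E₁ := Localization (Algebra.algebraMapSubmonoid D S)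
  have hS : S ≤ nonZeroDivisors A := p.primeCompl_le_nonZeroDivisors
  have hSE : Algebra.algebraMapSubmonoid D S ≤ nonZeroDivisors D := by
    rintro _ ⟨s, hs, rfl⟩
    have h1 := hS hs
    rw [mem_nonZeroDivisors_iff_ne_zero] at h1 ⊢
    exact fun h0 ↦ h1 (hinj (h0.trans (map_zero _).symm))
  have hE : Function.Injective (algebraMap D E₁) := IsLocalization.injective E₁ hSE
  haveI : IsDomain E₁ := IsLocalization.isDomain_localization hSE
  haveI : IsDomain F₁ := IsLocalization.isDomain_localization hS
  haveI : IsNoetherianRing F₁ := IsLocalization.isNoetherianRing S F₁ inferInstance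
  have hinj₁ : Function.Injective (algebraMap F₁ E₁) :=
    localizationAlgebra_injective (M := S) F₁ E₁ hinj
  haveI : FaithfulSMul F₁ E₁ := (faithfulSMul_iff_algebraMap_injective F₁ E₁).mpr hinj₁
  haveI : Algebra.IsIntegral F₁ E₁ :=
    ⟨isIntegral_localization (M := S) (Rₘ := F₁) (Sₘ := E₁)⟩
  have h1 : GF F₁ (⊥ : Ideal E₁) := gf_bot_localization S F₁ E₁ hE h
  have hfin := Groth.Agent.Ega41.SemiLocal.finite_isMaximal (A := F₁) (D := E₁) hinj₁ h1
  have hdisj : ∀ P : Ideal D, P.IsPrime ∧ P.comap (algebraMap A D) = p →
      Disjoint (Algebra.algebraMapSubmonoid D S : Set D) (P : Set D) := by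
    rintro P ⟨hP, hPp⟩
    rw [Set.disjoint_left]
    rintro _ ⟨s, hs, rfl⟩ hsP
    have : s ∈ P.comap (algebraMap A D) := hsP
    rw [hPp] at this
    exact hs this
  refine Set.Finite.of_injOn (f := fun P => P.map (algebraMap D E₁))
    (t := {M : Ideal E₁ | M.IsMaximal}) ?_ ?_ hfin
  · rintro P hP
    haveI := hP.1
    have hprime : (P.map (algebraMap D E₁)).IsPrime :=
      IsLocalization.isPrime_of_isPrime_disjoint (Algebra.algebraMapSubmonoid D S) E₁ P hP.1
        (hdisj P hP)
    have hcomap : (P.map (algebraMap D E₁)).comap (algebraMap D E₁) = P :=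
      IsLocalization.under_map_of_isPrime_disjoint (Algebra.algebraMapSubmonoid D S) E₁ hP.1
        (hdisj P hP)
    have hc : (P.map (algebraMap D E₁)).comap (algebraMap F₁ E₁) = maximalIdeal F₁ := by
      have h2 : ((P.map (algebraMap D E₁)).comap (algebraMap F₁ E₁)).comap (algebraMap A F₁) = p := by
        rw [Ideal.comap_comap, ← IsScalarTower.algebraMap_eq A F₁ E₁,
          IsScalarTower.algebraMap_eq A D E₁, ← Ideal.comap_comap, hcomap, hP.2]
      haveI : ((P.map (algebraMap D E₁)).comap (algebraMap F₁ E₁)).IsPrime :=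
        Ideal.comap_isPrime _ _
      refine le_antisymm (IsLocalRing.le_maximalIdeal (Ideal.IsPrime.ne_top inferInstance)) ?_
      rw [← Localization.AtPrime.map_eq_maximalIdeal, Ideal.map_le_iff_le_comap, h2]
    have hmax : ((P.map (algebraMap D E₁)).comap (algebraMap F₁ E₁)).IsMaximal := by
      rw [hc]; infer_instance
    exact Ideal.isMaximal_of_isIntegral_of_isMaximal_comap _ hmax
  · intro P hP P' hP' heq
    have h2 : (P.map (algebraMap D E₁)).comap (algebraMap D E₁) = P :=
      IsLocalization.under_map_of_isPrime_disjoint (Algebra.algebraMapSubmonoid D S) E₁ hP.1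
        (hdisj P hP)
    have h3 : (P'.map (algebraMap D E₁)).comap (algebraMap D E₁) = P' :=
      IsLocalization.under_map_of_isPrime_disjoint (Algebra.algebraMapSubmonoid D S) E₁ hP'.1
        (hdisj P' hP')
    have h4 : P.map (algebraMap D E₁) = P'.map (algebraMap D E₁) := heq
    rw [← h2, h4, h3]

theorem finite_fibre_integralClosure {A K : Type u} [CommRing A] [IsDomain A] [IsNoetherianRing A]
    [Field K] [Algebra A K] [IsFractionRing A K] (p : Ideal A) (hp : p.IsPrime) :
    {P : Ideal (integralClosure A K) | P.IsPrime ∧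
      P.comap (algebraMap A (integralClosure A K)) = p}.Finite := by
  have hinj : Function.Injective (algebraMap A (integralClosure A K)) := by
    intro x y hxy
    exact IsFractionRing.injective A K (congrArg (algebraMap (integralClosure A K) K) hxy)
  have hinj' : Function.Injective (algebraMap (integralClosure A K) K) := Subtype.val_injective
  have hgf : GF A (⊥ : Ideal (integralClosure A K)) :=
    gf_bot_of_finiteDimensional (K := K) (L := K) hinj'
  exact finite_fibre hinj hgf p

theorem exists_normalization {R : Type u} [CommRing R] (hR : CAlg.IsNagata R) (P : Ideal R)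
    [P.IsPrime] : ∃ (B : Type u) (_ : CommRing B) (_ : IsDomain B)
      (_ : IsNoetherianRing B) (_ : IsIntegrallyClosed B) (j : R →+* B), RingHom.ker j = P ∧
      j.IsIntegral ∧ ∃ d : R, d ∉ P ∧ ∀ β : B, ∃ a : R, j a = j d * β := by
  haveI : IsNoetherianRing R := hR.1
  obtain ⟨hfin, s, hs, h⟩ := Groth.Agent.Lipman.NagataIn.exists_conductor hR P
    (FractionRing (R ⧸ P))
  have hinj : Function.Injective (algebraMap (R ⧸ P)
      (integralClosure (R ⧸ P) (FractionRing (R ⧸ P)))) := by
    intro x y hxy
    exact IsFractionRing.injective (R ⧸ P) (FractionRing (R ⧸ P))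
      (congrArg (algebraMap (integralClosure (R ⧸ P) (FractionRing (R ⧸ P)))
        (FractionRing (R ⧸ P))) hxy)
  refine ⟨integralClosure (R ⧸ P) (FractionRing (R ⧸ P)), inferInstance, inferInstance,
    IsNoetherianRing.of_finite (R ⧸ P) _,
    integralClosure.isIntegrallyClosedOfFiniteExtension (FractionRing (R ⧸ P)),
    (algebraMap (R ⧸ P) _).comp (Ideal.Quotient.mk P), ?_, ?_, s, hs, fun β => ?_⟩
  · ext x
    rw [RingHom.mem_ker, RingHom.comp_apply]
    refine ⟨fun hx => ?_, fun hx => ?_⟩
    · exact Ideal.Quotient.eq_zero_iff_mem.mp (hinj (hx.trans (map_zero _).symm))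
    · rw [Ideal.Quotient.eq_zero_iff_mem.mpr hx, map_zero]
  · exact RingHom.IsIntegral.trans _ _
      (RingHom.isIntegral_of_surjective _ Ideal.Quotient.mk_surjective)
      (algebraMap_isIntegral_iff.mpr inferInstance)
  · obtain ⟨r, hr⟩ := h β.1 β.2
    exact ⟨r, Subtype.ext hr⟩

end K109.MoriFib
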