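import Groth.Agent.CAlg.K109.MoriSep

/-!
# Mori's theorem from a family of valuations

`main`: the conclusion of Mori's theorem for a Noetherian domain whose integral closure is the
intersection of a finite-character family of discrete valuations, all but finitely many of which are
determined by their centre in `A`, provided that `Spec A' → Spec A` has finite fibres.
-/

set_option autoImplicit false
set_option linter.style.haveILetI false
set_option linter.unusedSectionVars false

namespace K109.MoriMain

open WithZero K109.MoriSep Groth.Agent.EtpbcB.LocAcycRam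

variable {A K : Type*} {ι : Type*} [CommRing A] [IsDomain A] [Field K] [Algebra A K]
  (v : ι → Valuation K ℤᵐ⁰)

/-- A finite set of integral elements separating finitely many primes of `A'`. -/
theorem exists_finset (W : Set (Ideal (integralClosure A K))) (hW : W.Finite) :
    ∃ σ : Set K, σ.Finite ∧ (∀ x ∈ σ, IsIntegral A x) ∧
      ∀ P ∈ W, ∀ Q ∈ W, ¬ P ≤ Q → ∃ u : integralClosure A K, (u : K) ∈ σ ∧ u ∈ P ∧ u ∉ Q := by
  classical
  have h : ∀ PQ : Ideal (integralClosure A K) × Ideal (integralClosure A K),
      ∃ u : integralClosure A K, ¬ PQ.1 ≤ PQ.2 → u ∈ PQ.1 ∧ u ∉ PQ.2 := by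
    intro PQ
    by_cases hle : PQ.1 ≤ PQ.2
    · exact ⟨0, fun h => absurd hle h⟩
    · obtain ⟨u, hu1, hu2⟩ := Set.not_subset.mp hle
      exact ⟨u, fun _ => ⟨hu1, hu2⟩⟩
  choose f hf using h
  refine ⟨(fun PQ => ((f PQ : integralClosure A K) : K)) '' (W ×ˢ W), (hW.prod hW).image _, ?_, ?_⟩
  · rintro _ ⟨PQ, -, rfl⟩
    exact (f PQ).2
  · intro P hP Q hQ hle
    exact ⟨f (P, Q), ⟨(P, Q), ⟨hP, hQ⟩, rfl⟩, hf (P, Q) hle⟩

theorem main [IsNoetherianRing A] [IsFractionRing A K]
    (hv : ∀ x : K, (∀ i, v i x ≤ 1) ↔ IsIntegral A x)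
    (hfin : ∀ x : K, {i | 1 < v i x}.Finite) (T : Set ι) (hT : T.Finite)
    (huT : ∀ i ∉ T, ∀ P : Ideal (integralClosure A K), P.IsPrime →
      (∀ a : A, algebraMap A (integralClosure A K) a ∈ P ↔ v i (algebraMap A K a) < 1) →
      ∀ u, u ∈ P ↔ v i (u : K) < 1)
    (hfib : ∀ p : Ideal A, p.IsPrime → {P : Ideal (integralClosure A K) | P.IsPrime ∧
      P.comap (algebraMap A (integralClosure A K)) = p}.Finite) :
    ∃ C : Subalgebra A K, Module.Finite A C ∧
      (∀ (p : Ideal C) [p.IsPrime], p.height = 1 →
        ∃ V : ValuationSubring K, IsDiscreteValuationRing V ∧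
          ∀ x : K, x ∈ V ↔ ∃ s : C, s ∉ p ∧ IsIntegral C ((s : K) * x)) ∧
      (∀ x : K, x ∈ integralClosure A K ↔
        ∀ (p : Ideal C) [p.IsPrime], p.height = 1 → ∃ s : C, s ∉ p ∧ IsIntegral C ((s : K) * x)) ∧
      (∀ x : K, {p : Ideal C | p.IsPrime ∧ p.height = 1 ∧
        ¬ ∃ s : C, s ∉ p ∧ IsIntegral C ((s : K) * x)}.Finite) := by
  classical
  have hR : ∀ i, ∀ x : K, IsIntegral A x → v i x ≤ 1 := fun i x hx => (hv x).mpr hx i
  -- the bad primes
  let Z : Set (Ideal A) := (fun i => (cen v hR i).comap (algebraMap A (integralClosure A K))) '' T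
  let W : Set (Ideal (integralClosure A K)) :=
    {P | P.IsPrime ∧ P.comap (algebraMap A (integralClosure A K)) ∈ Z}
  have hW : W.Finite := by
    have h1 : W ⊆ ⋃ p ∈ Z, {P : Ideal (integralClosure A K) | P.IsPrime ∧
      P.comap (algebraMap A (integralClosure A K)) = p} := by
      intro P hP
      simp only [Set.mem_iUnion]
      exact ⟨_, hP.2, hP.1, rfl⟩
    refine ((hT.image _).biUnion fun p hp => hfib p ?_).subset h1
    obtain ⟨i, -, rfl⟩ := hp
    exact Ideal.comap_isPrime _ _
  obtain ⟨σ, hσ, hσi, hσs⟩ := exists_finset W hW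
  let C : Subalgebra A K := Algebra.adjoin A σ
  have hC : C ≤ integralClosure A K := Algebra.adjoin_le fun x hx => hσi x hx
  have hCfin : Module.Finite A C := Algebra.finite_adjoin_of_finite_of_isIntegral hσ hσi
  have hCnoeth : IsNoetherianRing C := isNoetherian_of_isNoetherianRing_of_finite A C |> fun h =>
    isNoetherian_of_tower A h
  have hint : ∀ x : K, IsIntegral C x ↔ IsIntegral A x := isIntegral_subalgebra_iff C hC
  have hadom : IsDomain C := inferInstance
  letI algCR : Algebra C (integralClosure A K) := (Subalgebra.inclusion hC).toAlgebra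
  have hCRmap : ∀ c : C, ((algebraMap C (integralClosure A K) c : integralClosure A K) : K) = c :=
    fun c => rfl
  haveI : IsScalarTower A C (integralClosure A K) := IsScalarTower.of_algebraMap_eq fun a => rfl
  haveI : IsScalarTower C (integralClosure A K) K := IsScalarTower.of_algebraMap_eq fun a => rfl
  haveI : Algebra.IsIntegral C (integralClosure A K) :=
    ⟨fun r => (Algebra.IsIntegral.isIntegral (R := A) r).tower_top⟩
  haveI : IsIntegralClosure (integralClosure A K) C K :=
    { algebraMap_injective := Subtype.val_injective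
      isIntegral_iff := fun {x} => by
        rw [hint]
        exact ⟨fun h => ⟨⟨x, h⟩, rfl⟩, fun ⟨y, hy⟩ => hy ▸ y.2⟩ }
  -- uniqueness
  have hu : ∀ i, ∀ P : Ideal (integralClosure A K), P.IsPrime →
      (∀ c : C, algebraMap C (integralClosure A K) c ∈ P ↔ v i (c : K) < 1) → P = cen v hR i := by
    intro i P hP hPc
    have hPa : ∀ a : A, algebraMap A (integralClosure A K) a ∈ P ↔ v i (algebraMap A K a) < 1 :=
      fun a => hPc (algebraMap A C a)
    by_cases hi : i ∈ T
    · have hcomap : P.comap (algebraMap A (integralClosure A K)) =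
          (cen v hR i).comap (algebraMap A (integralClosure A K)) := by
        ext a
        exact hPa a
      have hPW : P ∈ W := ⟨hP, i, hi, hcomap.symm⟩
      have hcW : cen v hR i ∈ W := ⟨inferInstance, i, hi, rfl⟩
      have hle : P ≤ cen v hR i := by
        by_contra hle
        obtain ⟨u, huσ, huP, hui⟩ := hσs P hPW _ hcW hle
        have h1 := (hPc ⟨(u : K), Algebra.subset_adjoin huσ⟩).mp huP
        exact hui h1
      by_contra hne
      exact absurd hcomap (Ideal.IsIntegral.comap_lt_comap (lt_of_le_of_ne hle hne)).ne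
    · ext u
      rw [huT i hi P hP hPa u]
      rfl
  -- every height one prime of `C` is the centre of some `v i`
  have hex : ∀ (p : Ideal C) [p.IsPrime], p.height = 1 →
      ∃ i, ∀ c : C, c ∈ p ↔ v i (c : K) < 1 := by
    intro p _ hp
    obtain ⟨a, hap, ha0⟩ := Submodule.exists_mem_ne_zero_of_ne_bot
      (Ideal.ne_bot_of_height_eq_one hp)
    have haK : (a : K) ≠ 0 := fun h => ha0 (Subtype.ext h)
    obtain ⟨P, -, hP, hPp⟩ := Ideal.exists_ideal_over_prime_of_isIntegral p
      (⊥ : Ideal (integralClosure A K)) (by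
        intro c hc
        rw [Ideal.mem_comap, Ideal.mem_bot] at hc
        have : (c : K) = 0 := congrArg Subtype.val hc
        have hc0 : c = 0 := Subtype.ext this
        rw [hc0]
        exact zero_mem _)
    obtain ⟨i, -, hi⟩ := exists_center v hv hfin C hC p hp ((a : K)⁻¹) (by
      intro s hs hsa
      apply hs
      rw [← hPp, Ideal.mem_comap]
      have h1 : algebraMap C (integralClosure A K) s =
          algebraMap C (integralClosure A K) a * ⟨_, hsa⟩ := by
        apply Subtype.ext
        change (s : K) = (a : K) * ((s : K) * (a : K)⁻¹)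
        field_simp
      rw [h1]
      refine Ideal.mul_mem_right _ _ ?_
      rw [← hPp, Ideal.mem_comap] at hap
      exact hap)
    exact ⟨i, hi⟩
  refine ⟨C, hCfin, ?_, ?_, ?_⟩
  · intro p _ hp
    obtain ⟨i, hi⟩ := hex p hp
    let B := Localization.AtPrime p
    letI : Algebra B K := (IsLocalization.lift (M := p.primeCompl) (S := B)
      (g := algebraMap C K) (fun s => by
        rw [isUnit_iff_ne_zero]
        intro h
        have h1 : (s : C) = 0 := Subtype.ext h
        exact s.2 (h1 ▸ zero_mem _))).toAlgebra
    haveI : IsScalarTower C B K := IsScalarTower.of_algebraMap_eq fun c =>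
      (IsLocalization.lift_eq (M := p.primeCompl) (S := B) _ c).symm
    haveI : IsFractionRing B K :=
      IsFractionRing.isFractionRing_of_isDomain_of_isLocalization p.primeCompl B K
    let D := integralClosure B K
    haveI : FaithfulSMul B D := by
      rw [faithfulSMul_iff_algebraMap_injective]
      intro a b hab
      exact IsFractionRing.injective B K (congrArg Subtype.val hab)
    have hDVR : IsDiscreteValuationRing D := by
      refine isDiscreteValuationRing_of_unique (R := integralClosure A K) B D K p hp
        (cen v hR i) ?_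
      intro P' hP' hPp
      refine hu i P' hP' fun c => ?_
      rw [← hi, ← hPp, Ideal.mem_comap]
    haveI : IsFractionRing D K :=
      IsIntegralClosure.isFractionRing_of_finite_extension B K K D
    obtain ⟨V, hV, hVm⟩ := exists_valuationSubring_of_dvr (D := D) (K := K)
    refine ⟨V, hV, fun x => ?_⟩
    rw [hVm, ← IsIntegralClosure.isIntegral_iff (A := D) (R := B),
      isIntegral_iff_of_isLocalization p]
    rfl
  · intro x
    constructor
    · intro hx p _ _
      refine ⟨1, fun h => ‹p.IsPrime›.ne_top ((Ideal.eq_top_iff_one p).mpr h), ?_⟩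
      rw [hint]
      have h1 : ((1 : C) : K) * x = x := one_mul _
      rw [h1]
      exact hx
    · intro hx
      by_contra hxA
      haveI : IsFractionRing (integralClosure A K) K :=
        IsIntegralClosure.isFractionRing_of_finite_extension A K K _
      have hvR : ∀ x : K, (∀ i, v i x ≤ 1) ↔
          ∃ r : integralClosure A K, algebraMap (integralClosure A K) K r = x := fun x => by
        rw [hv]
        exact ⟨fun h => ⟨⟨x, h⟩, rfl⟩, fun ⟨y, hy⟩ => hy ▸ y.2⟩
      obtain ⟨P, i, hP, hPbot, -, hPx, hPht, hPi⟩ := KrullFam.exists_prime v hvR hfin x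
        (fun ⟨r, hr⟩ => hxA (hr ▸ r.2))
      let p : Ideal C := P.comap (algebraMap C (integralClosure A K))
      haveI : p.IsPrime := Ideal.comap_isPrime _ _
      have hpc : ∀ c : C, c ∈ p ↔ v i (c : K) < 1 := fun c => hPi _
      have hPc : P = cen v hR i := hu i P hP fun c => hpc c
      have hpbot : p ≠ ⊥ := Ideal.IsIntegral.comap_ne_bot C hPbot
      have hp1 : p.height ≤ 1 := by
        refine height_le_one_of_forall fun q hq hqp hq0 => ?_
        obtain ⟨P1, -, hP1, hP1q⟩ := Ideal.exists_ideal_over_prime_of_isIntegral q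
          (⊥ : Ideal (integralClosure A K)) (by
            intro c hc
            rw [Ideal.mem_comap, Ideal.mem_bot] at hc
            have : (c : K) = 0 := congrArg Subtype.val hc
            have hc0 : c = 0 := Subtype.ext this
            rw [hc0]
            exact zero_mem _)
        obtain ⟨P2, hP12, hP2, hP2p⟩ := Ideal.exists_ideal_over_prime_of_isIntegral_of_isPrime p P1
          (hP1q.le.trans hqp)
        have h2 : P2 = P := (hu i P2 hP2 fun c => by
          rw [← hpc, ← hP2p, Ideal.mem_comap]).trans hPc.symm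
        have h1 : P1 ≠ ⊥ := by
          rintro rfl
          apply hq0
          rw [← hP1q, eq_bot_iff]
          intro c hc
          rw [Ideal.mem_comap, Ideal.mem_bot] at hc
          have : (c : K) = 0 := congrArg Subtype.val hc
          rw [Ideal.mem_bot]
          exact Subtype.ext this
        have h3 := hPht P1 hP1 h1 (h2 ▸ hP12)
        rw [← hP1q, h3]
      have hp : p.height = 1 := by
        refine le_antisymm hp1 ?_
        rw [Order.one_le_iff_pos, pos_iff_ne_zero]
        exact fun h => hpbot (Ideal.height_eq_zero_iff_eq_bot.mp h)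
      obtain ⟨s, hs, hsx⟩ := hx p hp
      rw [hint] at hsx
      exact hPx (algebraMap C (integralClosure A K) s) hs ⟨⟨_, hsx⟩, rfl⟩
  · intro x
    have h1 : {p : Ideal C | p.IsPrime ∧ p.height = 1 ∧
        ¬ ∃ s : C, s ∉ p ∧ IsIntegral C ((s : K) * x)} ⊆
        (fun i => (cen v hR i).comap (algebraMap C (integralClosure A K))) '' {i | 1 < v i x} := by
      rintro p ⟨hp, hp1, hpx⟩
      obtain ⟨i, hi, hic⟩ := exists_center v hv hfin C hC p hp1 x (fun s hs hsx =>
        hpx ⟨s, hs, (hint _).mpr hsx⟩)
      refine ⟨i, hi, ?_⟩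
      ext c
      rw [Ideal.mem_comap, hic]
      rfl
    exact ((hfin x).image _).subset h1

end K109.MoriMain
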