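import Groth.Agent.CAlg.K109.KrullFam
import Groth.Agent.EtpbcB.LocAcycRam
import Groth.Agent.VarietyB.SemilocalDedekind

/-!
# The Krull domain `A'` seen from a finite subalgebra (Mori)

Let `A` be a Noetherian domain with fraction field `K` whose integral closure `A'` is the
intersection of a finite-character family of discrete valuations of `K`. If all but finitely many
members of the family are the only ones over their centre in `A` and the fibres of
`Spec A' → Spec A` are finite, there is a finite subalgebra `C` of `A'` such that exactly one prime of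
`A'` lies over every height one prime of `C`.
-/

set_option autoImplicit false
set_option linter.unusedSectionVars false

namespace K109.MoriSep

open WithZero Groth.Agent.EtpbcB.LocAcycRam

section cen

variable {A K : Type*} {ι : Type*} [CommRing A] [IsDomain A] [Field K] [Algebra A K]
  (v : ι → Valuation K ℤᵐ⁰)

/-- The centre of `v i` on the integral closure. -/
def cen (hR : ∀ i, ∀ x : K, IsIntegral A x → v i x ≤ 1) (i : ι) : Ideal (integralClosure A K) where
  carrier := {u | v i (u : K) < 1}
  add_mem' := fun {a b} ha hb => by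
    change v i ((a : K) + (b : K)) < 1
    exact (v i).map_add_lt ha hb
  zero_mem' := by
    change v i (0 : K) < 1
    rw [map_zero]
    exact zero_lt_one
  smul_mem' := fun c {x} hx => by
    change v i ((c : K) * (x : K)) < 1
    rw [map_mul]
    exact (mul_le_of_le_one_left' (hR i _ c.2)).trans_lt hx

theorem mem_cen (hR : ∀ i, ∀ x : K, IsIntegral A x → v i x ≤ 1) (i : ι)
    (u : integralClosure A K) : u ∈ cen v hR i ↔ v i (u : K) < 1 := Iff.rfl

instance isPrime_cen (hR : ∀ i, ∀ x : K, IsIntegral A x → v i x ≤ 1) (i : ι) :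
    (cen v hR i).IsPrime := by
  rw [Ideal.isPrime_iff]
  refine ⟨?_, ?_⟩
  · rw [Ne, Ideal.eq_top_iff_one, mem_cen]
    change ¬ v i (1 : K) < 1
    rw [map_one]
    exact lt_irrefl _
  · intro a b hab
    rw [mem_cen] at hab ⊢
    rw [mem_cen]
    change v i ((a : K) * (b : K)) < 1 at hab
    rw [map_mul] at hab
    by_contra hcon
    push Not at hcon
    exact absurd hab (not_lt.mpr (one_le_mul_of_one_le_of_one_le hcon.1 hcon.2))

theorem exists_center [IsFractionRing A K] (hv : ∀ x : K, (∀ i, v i x ≤ 1) ↔ IsIntegral A x)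
    (hfin : ∀ x : K, {i | 1 < v i x}.Finite) (C : Subalgebra A K)
    (hC : C ≤ integralClosure A K) (p : Ideal C) [p.IsPrime] (hp : p.height = 1) (x : K)
    (hx : ∀ s : C, s ∉ p → ¬ IsIntegral A ((s : K) * x)) :
    ∃ i, 1 < v i x ∧ ∀ c : C, c ∈ p ↔ v i (c : K) < 1 := by
  classical
  have hR : ∀ i, ∀ x : K, IsIntegral A x → v i x ≤ 1 := fun i x hx => (hv x).mpr hx i
  have hCR : ∀ (i : ι) (c : C), v i (c : K) ≤ 1 := fun i c => hR i _ (hC c.2)
  by_contra hcon
  push Not at hcon
  let ψ : C →+* integralClosure A K := (Subalgebra.inclusion hC : C →+* integralClosure A K)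
  obtain ⟨b, a, ha, hab⟩ := IsFractionRing.div_surjective (A := A) x
  have ha0 : a ≠ 0 := nonZeroDivisors.ne_zero ha
  have haK : algebraMap A K a ≠ 0 := fun h => ha0 (IsFractionRing.injective A K (by rw [h, map_zero]))
  have hsep : ∀ i, 1 < v i x → ∃ s : C, s ∉ p ∧ v i (s : K) < 1 := by
    intro i hi
    by_contra hno
    push Not at hno
    let q : Ideal C := (cen v hR i).comap ψ
    have hq : ∀ c : C, c ∈ q ↔ v i (c : K) < 1 := fun c => Iff.rfl
    have hqp : q ≤ p := by
      intro c hc
      by_contra hcp
      exact absurd ((hq c).mp hc) (not_lt.mpr (hno c hcp))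
    have hqbot : q ≠ ⊥ := by
      intro h
      have h1 : algebraMap A C a ∈ q := by
        rw [hq]
        change v i (algebraMap A K a) < 1
        by_contra hcon'
        push Not at hcon'
        have h2 : v i x * v i (algebraMap A K a) ≤ 1 := by
          rw [← map_mul, ← hab, div_mul_cancel₀ _ haK]
          exact hR i _ isIntegral_algebraMap
        have h3 : v i x ≤ v i x * v i (algebraMap A K a) := le_mul_of_one_le_right' hcon'
        exact absurd (h3.trans h2) (not_le.mpr hi)
      rw [h, Ideal.mem_bot] at h1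
      apply haK
      have h4 : ((algebraMap A C a : C) : K) = 0 := by rw [h1]; rfl
      exact h4
    have hqeq : q = p := eq_of_height_le_one hp.le hqp hqbot
    obtain ⟨c, hc⟩ := hcon i hi
    rw [← hqeq, hq] at hc
    rcases hc with ⟨h1, h2⟩ | ⟨h1, h2⟩
    · exact absurd h1 (not_lt.mpr h2)
    · exact absurd h2 (not_lt.mpr (not_lt.mp h1))
  choose! s hs using hsep
  have hn : ∀ i, 1 < v i x → ∃ n : ℕ, v i (s i : K) ^ n * v i x ≤ 1 := fun i hi =>
    KrullFam.exists_mul_pow_le_one (hs i hi).2
  choose! n hn using hn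
  let S : Finset ι := (hfin x).toFinset
  have hS : ∀ i, i ∈ S ↔ 1 < v i x := fun i => by simp [S]
  let t : C := ∏ i ∈ S, s i ^ n i
  have ht : t ∉ p := by
    intro h
    obtain ⟨i, hi, h1⟩ := (Ideal.IsPrime.prod_mem_iff (p := p)).mp h
    exact (hs i ((hS i).mp hi)).1 (Ideal.IsPrime.mem_of_pow_mem inferInstance _ h1)
  refine hx t ht ((hv _).mp fun j => ?_)
  have htv : v j (t : K) = ∏ i ∈ S, v j (s i : K) ^ n i := by
    have : (t : K) = ∏ i ∈ S, (s i : K) ^ n i := by
      simp [t]
    rw [this, map_prod]
    exact Finset.prod_congr rfl fun i _ => map_pow _ _ _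
  by_cases hj : j ∈ S
  · rw [map_mul, htv, ← Finset.mul_prod_erase S _ hj, mul_right_comm]
    have h1 : ∏ i ∈ S.erase j, v j (s i : K) ^ n i ≤ 1 :=
      Finset.prod_le_one' fun i _ => pow_le_one' (hCR j _) _
    calc v j (s j : K) ^ n j * v j x * ∏ i ∈ S.erase j, v j (s i : K) ^ n i
        ≤ v j (s j : K) ^ n j * v j x := mul_le_of_le_one_right' h1
      _ ≤ 1 := hn j ((hS j).mp hj)
  · rw [map_mul]
    have h1 : v j x ≤ 1 := not_lt.mp fun h => hj ((hS j).mpr h)
    exact mul_le_one' (hCR j t) h1

theorem isIntegral_subalgebra_iff (C : Subalgebra A K) (hC : C ≤ integralClosure A K) (x : K) :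
    IsIntegral C x ↔ IsIntegral A x := by
  have : Algebra.IsIntegral A C := ⟨fun c => by
    have h : IsIntegral A (c : K) := hC c.2
    exact (isIntegral_algHom_iff C.val Subtype.val_injective).mp h⟩
  exact ⟨fun h => isIntegral_trans (R := A) (A := C) x h, fun h => h.tower_top⟩

end cen

section dvr

variable {C B D R K : Type*} [CommRing C] [IsDomain C] [IsNoetherianRing C] [Field K] [Algebra C K]
  [CommRing B] [IsDomain B] [Algebra C B] [Algebra B K] [IsScalarTower C B K] [IsFractionRing B K]
  [CommRing D] [IsDomain D] [Algebra B D] [Algebra D K] [IsScalarTower B D K]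
  [IsIntegralClosure D B K] [FaithfulSMul B D]
  [CommRing R] [Algebra C R] [Algebra R K] [IsScalarTower C R K] [IsIntegralClosure R C K]

theorem isIntegral_iff_of_isLocalization (p : Ideal C) [p.IsPrime] [IsLocalization.AtPrime B p]
    (x : K) : IsIntegral B x ↔ ∃ s : C, s ∉ p ∧ IsIntegral C (algebraMap C K s * x) := by
  constructor
  · intro hx
    obtain ⟨m, hm⟩ := hx.exists_multiple_integral_of_isLocalization p.primeCompl
    refine ⟨m.1, m.2, ?_⟩
    rw [Submonoid.smul_def, Algebra.smul_def] at hm
    exact hm
  · rintro ⟨s, hs, hsx⟩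
    have h1 : IsIntegral B (algebraMap C K s * x) := hsx.tower_top
    have hu : IsUnit (algebraMap C B s) := IsLocalization.map_units B (⟨s, hs⟩ : p.primeCompl)
    obtain ⟨u, hu⟩ := hu
    have h2 : IsIntegral B (algebraMap B K (↑u⁻¹ : B)) := isIntegral_algebraMap
    have h3 := h2.mul h1
    have h4 : algebraMap B K (↑u⁻¹ : B) * algebraMap C K s = 1 := by
      rw [IsScalarTower.algebraMap_apply C B K, ← map_mul, ← hu, Units.inv_mul, map_one]
    rwa [← mul_assoc, h4, one_mul] at h3

variable (B D K) in
include K in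
theorem isDiscreteValuationRing_of_unique (p : Ideal C) [p.IsPrime] (hp : p.height = 1)
    [IsLocalization.AtPrime B p] (P : Ideal R)
    (huniq : ∀ P' : Ideal R, P'.IsPrime → P'.comap (algebraMap C R) = p → P' = P) :
    IsDiscreteValuationRing D := by
  classical
  have : IsLocalRing B := IsLocalization.AtPrime.isLocalRing B p
  have : IsNoetherianRing B := IsLocalization.isNoetherianRing p.primeCompl B inferInstance
  have hdim : Ring.KrullDimLE 1 B := by
    rw [Ring.KrullDimLE, Order.krullDimLE_iff]
    have h1 := IsLocalization.AtPrime.ringKrullDim_eq_height p B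
    rw [hp] at h1
    exact h1.le
  have hD : IsDedekindDomain D :=
    Groth.Agent.VarietyB.SemilocalDedekind.isDedekindDomain_of_isIntegralClosure B K K D
  have hint : Algebra.IsIntegral B D := IsIntegralClosure.isIntegral_algebra B K
  have hDK : Function.Injective (algebraMap D K) := IsIntegralClosure.algebraMap_injective D B K
  -- the map `R → D`
  have hρ : ∀ r : R, ∃ d : D, algebraMap D K d = algebraMap R K r := fun r => by
    have h1 : IsIntegral C (algebraMap R K r) :=
      (IsIntegralClosure.isIntegral_iff (A := R)).mpr ⟨r, rfl⟩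
    exact (IsIntegralClosure.isIntegral_iff (A := D) (R := B)).mp h1.tower_top
  choose ρ0 hρ0 using hρ
  let ρ : R →+* D :=
    { toFun := ρ0
      map_one' := hDK (by rw [hρ0, map_one, map_one])
      map_mul' := fun a b => hDK (by rw [hρ0, map_mul, map_mul, hρ0, hρ0])
      map_zero' := hDK (by rw [hρ0, map_zero, map_zero])
      map_add' := fun a b => hDK (by rw [hρ0, map_add, map_add, hρ0, hρ0]) }
  have hρK : ∀ r : R, algebraMap D K (ρ r) = algebraMap R K r := hρ0
  have hρC : ∀ c : C, ρ (algebraMap C R c) = algebraMap B D (algebraMap C B c) := fun c => by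
    apply hDK
    rw [hρK, ← IsScalarTower.algebraMap_apply C R K, ← IsScalarTower.algebraMap_apply B D K,
      ← IsScalarTower.algebraMap_apply C B K]
  -- maximal ideals of `D`
  have hmax : ∀ m : Ideal D, m.IsMaximal → ∀ d : D, d ∈ m ↔ ∀ s : C, s ∉ p →
      ∀ r : R, algebraMap R K r = algebraMap C K s * algebraMap D K d → r ∈ P := by
    intro m hm d
    have hmB : m.comap (algebraMap B D) = IsLocalRing.maximalIdeal B :=
      IsLocalRing.eq_maximalIdeal (Ideal.isMaximal_comap_of_isIntegral_of_isMaximal m)
    have hC' : ∀ c : C, ρ (algebraMap C R c) ∈ m ↔ c ∈ p := by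
      intro c
      rw [hρC, ← Ideal.mem_comap, hmB, IsLocalization.AtPrime.to_map_mem_maximal_iff B p]
    have hP : m.comap ρ = P := by
      have : (m.comap ρ).IsPrime := Ideal.comap_isPrime _ _
      refine huniq _ this ?_
      ext c
      exact hC' c
    have hsd : ∀ (s : C) (r : R), algebraMap R K r = algebraMap C K s * algebraMap D K d →
        ρ r = ρ (algebraMap C R s) * d := fun s r h => by
      apply hDK
      rw [hρK, h, map_mul, hρK, ← IsScalarTower.algebraMap_apply C R K]
    constructor
    · intro hd s hs r h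
      rw [← hP, Ideal.mem_comap, hsd s r h]
      exact Ideal.mul_mem_left _ _ hd
    · intro h
      have hdi : IsIntegral B (algebraMap D K d) :=
        (IsIntegralClosure.isIntegral_iff (A := D)).mpr ⟨d, rfl⟩
      obtain ⟨s, hs, hsi⟩ := (isIntegral_iff_of_isLocalization p _).mp hdi
      obtain ⟨r, hr⟩ := (IsIntegralClosure.isIntegral_iff (A := R)).mp hsi
      have h1 := h s hs r hr
      rw [← hP, Ideal.mem_comap, hsd s r hr] at h1
      exact (hm.isPrime.mem_or_mem h1).resolve_left fun h3 => hs ((hC' s).mp h3)
  have : IsLocalRing D := by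
    obtain ⟨m, hm⟩ := Ideal.exists_maximal D
    refine IsLocalRing.of_unique_max_ideal ⟨m, hm, fun m' hm' => ?_⟩
    ext d
    rw [hmax m hm, hmax m' hm']
  have hfield : ¬ IsField D := by
    intro hf
    obtain ⟨c, hc, hc0⟩ := Submodule.exists_mem_ne_zero_of_ne_bot
      (Ideal.ne_bot_of_height_eq_one hp)
    have h1 : IsField B := isField_of_isIntegral_of_isField
      (FaithfulSMul.algebraMap_injective B D) hf
    have h2 : IsLocalRing.maximalIdeal B = ⊥ := IsLocalRing.isField_iff_maximalIdeal_eq.mp h1
    have h3 : algebraMap C B c ∈ IsLocalRing.maximalIdeal B :=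
      (IsLocalization.AtPrime.to_map_mem_maximal_iff B p c).mpr hc
    rw [h2, Ideal.mem_bot] at h3
    exact hc0 (IsLocalization.injective B p.primeCompl_le_nonZeroDivisors
      (h3.trans (map_zero _).symm))
  exact ((IsDiscreteValuationRing.TFAE D hfield).out 0 2).mpr hD

/-- A discrete valuation ring with fraction field `K`, as a valuation subring. -/
theorem exists_valuationSubring_of_dvr [IsDiscreteValuationRing D] [IsFractionRing D K] :
    ∃ V : ValuationSubring K, IsDiscreteValuationRing V ∧
      ∀ x : K, x ∈ V ↔ ∃ d : D, algebraMap D K d = x := by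
  let V : ValuationSubring K :=
    { (algebraMap D K).range with
      mem_or_inv_mem' := fun x => by
        rcases ValuationRing.isInteger_or_isInteger D x with ⟨y, hy⟩ | ⟨y, hy⟩
        · exact Or.inl ⟨y, hy⟩
        · exact Or.inr ⟨y, hy⟩ }
  let e : D ≃+* V := RingEquiv.ofBijective (algebraMap D K).rangeRestrict
    ⟨fun a b h => IsFractionRing.injective D K (congrArg Subtype.val h),
      (algebraMap D K).rangeRestrict_surjective⟩
  exact ⟨V, IsDiscreteValuationRing.RingEquivClass.isDiscreteValuationRing e, fun x => Iff.rfl⟩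

end dvr

end K109.MoriSep
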