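import Groth.Agent.CAlg.K109.DvrVal
import Groth.Agent.FlatA.TensorPrime
import Mathlib.RingTheory.Ideal.GoingUp
import Mathlib.RingTheory.Flat.FaithfullyFlat.Algebra
import Mathlib.RingTheory.Regular.IsSMulRegular

/-!
# Primes of the integral closure and of the normalization of the completion

`A → Ah` faithfully flat, `A` a Noetherian domain with integral closure `R` in `K = Frac A`.
-/

set_option autoImplicit false
set_option linter.style.haveILetI false
set_option linter.unusedSectionVars false

universe u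

namespace K109.MoriTensor

open TensorProduct

section hom

variable {A K B : Type*} [CommRing A] [IsDomain A] [Field K] [Algebra A K] [IsFractionRing A K]
  [CommRing B] [IsDomain B] [IsIntegrallyClosed B]

theorem exists_ringHom (φ : A →+* B) (hφ : Function.Injective φ) :
    ∃ ψ : integralClosure A K →+* B, ∀ a : A, ψ (algebraMap A (integralClosure A K) a) = φ a := by
  let L := FractionRing B
  have hinjL : Function.Injective (algebraMap B L) := IsFractionRing.injective B L
  have hθ0 : Function.Injective ((algebraMap B L).comp φ) := hinjL.comp hφ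
  let θ : K →+* L := IsFractionRing.lift hθ0
  have hθ : ∀ a : A, θ (algebraMap A K a) = algebraMap B L (φ a) := fun a =>
    IsFractionRing.lift_algebraMap hθ0 a
  have h : ∀ u : integralClosure A K, ∃ β : B, algebraMap B L β = θ (u : K) := by
    intro u
    rw [← IsIntegrallyClosed.isIntegral_iff]
    refine IsIntegral.map_of_comp_eq φ θ ?_ u.2
    ext a
    exact (hθ a).symm
  choose ψ0 hψ0 using h
  refine ⟨{ toFun := ψ0
            map_one' := hinjL (by rw [hψ0, map_one]; exact map_one θ)
            map_mul' := fun a b => hinjL (by rw [hψ0, map_mul, hψ0, hψ0]; exact map_mul θ _ _)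
            map_zero' := hinjL (by rw [hψ0, map_zero]; exact map_zero θ)
            map_add' := fun a b => hinjL (by rw [hψ0, map_add, hψ0, hψ0]; exact map_add θ _ _) },
    fun a => hinjL ?_⟩
  change algebraMap B L (ψ0 _) = _
  rw [hψ0]
  exact hθ a

end hom

section flat

variable {A Ah : Type u} [CommRing A] [IsDomain A] [CommRing Ah] [Algebra A Ah]
  [Module.Flat A Ah]

theorem comap_eq_bot_of_mem_minimalPrimes (P : Ideal Ah) (hP : P ∈ minimalPrimes Ah) (a : A)
    (ha : algebraMap A Ah a ∈ P) : a = 0 := by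
  by_contra h0
  have h1 : algebraMap A Ah a ∈ nonZeroDivisors Ah := by
    rw [mem_nonZeroDivisors_iff_right]
    intro x hx
    have h3 : IsSMulRegular A a := fun x y hxy => mul_left_cancel₀ h0 hxy
    have h2 : IsSMulRegular Ah (algebraMap A Ah a) := h3.of_flat
    apply h2
    change algebraMap A Ah a • x = algebraMap A Ah a • 0
    rw [smul_zero, smul_eq_mul, mul_comm]
    exact hx
  exact Set.disjoint_left.mp (Ideal.disjoint_nonZeroDivisors_of_mem_minimalPrimes hP) ha h1

end flat

section tensor

variable {A Ah K : Type u} [CommRing A] [IsDomain A] [CommRing Ah] [Algebra A Ah]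
  [Module.Flat A Ah] [Field K] [Algebra A K] [IsFractionRing A K]

/-- Every element of `Ah ⊗ A'` comes from `Ah` up to a nonzero factor in `A`. -/
theorem exists_smul_eq_tmul_one (z : Ah ⊗[A] (integralClosure A K)) :
    ∃ a : A, a ≠ 0 ∧ ∃ t : Ah, a • z = t ⊗ₜ[A] (1 : integralClosure A K) := by
  induction z using TensorProduct.induction_on with
  | zero => exact ⟨1, one_ne_zero, 0, by rw [smul_zero, TensorProduct.zero_tmul]⟩
  | tmul t u =>
    obtain ⟨b, a, ha, hab⟩ := IsFractionRing.div_surjective (A := A) (u : K)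
    have ha0 : a ≠ 0 := nonZeroDivisors.ne_zero ha
    have haK : algebraMap A K a ≠ 0 := fun h =>
      ha0 (IsFractionRing.injective A K (h.trans (map_zero _).symm))
    refine ⟨a, ha0, b • t, ?_⟩
    have h1 : a • u = b • (1 : integralClosure A K) := by
      apply Subtype.ext
      change a • (u : K) = b • (1 : K)
      rw [Algebra.smul_def, Algebra.smul_def, mul_one, ← hab, mul_div_cancel₀ _ haK]
    rw [← TensorProduct.tmul_smul, h1, TensorProduct.tmul_smul, TensorProduct.smul_tmul']
  | add x y hx hy =>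
    obtain ⟨a, ha, t, hat⟩ := hx
    obtain ⟨b, hb, s, hbs⟩ := hy
    refine ⟨a * b, mul_ne_zero ha hb, b • t + a • s, ?_⟩
    rw [smul_add, mul_comm a b, mul_smul, hat, mul_comm b a, mul_smul, hbs, TensorProduct.add_tmul,
      TensorProduct.smul_tmul', TensorProduct.smul_tmul']

theorem isSMulRegular_tensor (a : A) (ha : a ≠ 0) :
    IsSMulRegular (Ah ⊗[A] (integralClosure A K)) a := by
  refine IsSMulRegular.lTensor _ fun x y hxy => ?_
  have haK : algebraMap A K a ≠ 0 := fun h =>
    ha (IsFractionRing.injective A K (h.trans (map_zero _).symm))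
  apply Subtype.ext
  have h1 : a • (x : K) = a • (y : K) := congrArg Subtype.val hxy
  rw [Algebra.smul_def, Algebra.smul_def] at h1
  exact mul_left_cancel₀ haK h1

theorem exists_prime_over {σ : Type*} [Finite σ] {B : σ → Type u} [∀ i, CommRing (B i)]
    [∀ i, IsDomain (B i)] (j : ∀ i, Ah →+* B i) (hj : ∀ i, (j i).IsIntegral)
    (hnil : ∀ t : Ah, (∀ i, j i t = 0) → IsNilpotent t)
    (ψ : ∀ i, integralClosure A K →+* B i)
    (hψ : ∀ i a, ψ i (algebraMap A (integralClosure A K) a) = j i (algebraMap A Ah a))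
    (P1 : Ideal (integralClosure A K)) [P1.IsPrime] (q : Ideal Ah) [q.IsPrime]
    (h : P1.comap (algebraMap A (integralClosure A K)) = q.comap (algebraMap A Ah)) :
    ∃ i, ∃ Q : Ideal (B i), Q.IsPrime ∧ Q.comap (j i) = q ∧ Q.comap (ψ i) = P1 := by
  classical
  haveI := Fintype.ofFinite σ
  obtain ⟨⟨N, hN⟩, hN1, hN2⟩ := Groth.Agent.FlatA.TensorPrime.exists_prime
    (R := A) (A := Ah) (B := integralClosure A K) ⟨q, inferInstance⟩ ⟨P1, inferInstance⟩
    (by ext1; exact h.symm)
  have hN1' : N.comap (algebraMap Ah (Ah ⊗[A] (integralClosure A K))) = q :=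
    congrArg PrimeSpectrum.asIdeal hN1
  have hN2' : N.comap (Algebra.TensorProduct.includeRight :
      integralClosure A K →ₐ[A] Ah ⊗[A] (integralClosure A K)).toRingHom = P1 :=
    congrArg PrimeSpectrum.asIdeal hN2
  letI algB : ∀ i, Algebra A (B i) := fun i => ((j i).comp (algebraMap A Ah)).toAlgebra
  let jA : ∀ i, Ah →ₐ[A] B i := fun i => { j i with commutes' := fun a => rfl }
  let ψA : ∀ i, integralClosure A K →ₐ[A] B i := fun i => { ψ i with commutes' := fun a => hψ i a }
  let Φ : ∀ i, Ah ⊗[A] (integralClosure A K) →ₐ[A] B i := fun i =>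
    Algebra.TensorProduct.lift (jA i) (ψA i) fun _ _ => Commute.all _ _
  have hΦ1 : ∀ i t, Φ i (t ⊗ₜ 1) = j i t := fun i t => by
    simp only [Φ, Algebra.TensorProduct.lift_tmul, map_one, mul_one]
    rfl
  have hΦ2 : ∀ i u, Φ i (1 ⊗ₜ u) = ψ i u := fun i u => by
    simp only [Φ, Algebra.TensorProduct.lift_tmul, map_one, one_mul]
    rfl
  -- the intersection of the kernels is nil
  have hker : Finset.univ.inf (fun i => RingHom.ker (Φ i : Ah ⊗[A] (integralClosure A K) →+* B i))
      ≤ N := by
    intro z hz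
    rw [Submodule.mem_finsetInf] at hz
    obtain ⟨a, ha, t, hat⟩ := exists_smul_eq_tmul_one z
    have ht : IsNilpotent t := by
      apply hnil
      intro i
      rw [← hΦ1 i t, ← hat, map_smul]
      have h1 : Φ i z = 0 := hz i (Finset.mem_univ i)
      rw [h1, smul_zero]
    obtain ⟨n, hn⟩ := ht
    have hzn : z ^ n = 0 := by
      apply isSMulRegular_tensor (K := K) (Ah := Ah) (a ^ n) (pow_ne_zero n ha)
      change a ^ n • z ^ n = a ^ n • 0
      rw [← smul_pow, hat, Algebra.TensorProduct.tmul_pow, hn, TensorProduct.zero_tmul, smul_zero]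
    exact hN.mem_of_pow_mem n (hzn ▸ zero_mem N)
  obtain ⟨i, -, hi⟩ := (Ideal.IsPrime.inf_le' hN).mp hker
  letI algE : Algebra (Ah ⊗[A] (integralClosure A K)) (B i) :=
    (Φ i : Ah ⊗[A] (integralClosure A K) →+* B i).toAlgebra
  haveI : Algebra.IsIntegral (Ah ⊗[A] (integralClosure A K)) (B i) := by
    refine ⟨fun β => ?_⟩
    obtain ⟨p, hp, hpβ⟩ := hj i β
    refine ⟨p.map (algebraMap Ah (Ah ⊗[A] (integralClosure A K))), hp.map _, ?_⟩
    rw [Polynomial.eval₂_map]
    convert hpβ using 2
    ext t
    exact hΦ1 i t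
  obtain ⟨Q, hQ, hQN⟩ := Ideal.exists_ideal_over_prime_of_isIntegral_of_isDomain (S := B i) N hi
  refine ⟨i, Q, hQ, ?_, ?_⟩
  · rw [← hN1', ← hQN, Ideal.comap_comap]
    congr 1
    ext t
    exact (hΦ1 i t).symm
  · rw [← hN2', ← hQN, Ideal.comap_comap]
    congr 1
    ext u
    exact (hΦ2 i u).symm

end tensor

end K109.MoriTensor
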